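import Cfsg.Agent.Fusion.RelTransfer.Stabilize
import Cfsg.Agent.Fusion.Hyperfocal

/-!
Every homomorphism on the hyperfocal subgroup invariant under `S` extends to `S`.
-/

set_option autoImplicit false

namespace Cfsg.Lib.Fusion.RelTransfer

open Cfsg Cfsg.FusionSystem MulAction

variable {Ω : Type*} [Group Ω] {S : Subgroup Ω} {F : FusionSystem S} {A : Type*} [CommGroup A]
  {D : Data F A} {C : Piece F} {p : ℕ}

theorem cval_one (c : S ⧸ C.R) : cval D C 1 c = 1 := by
  have h := cval_mul (D := D) (x := 1) (y := 1) (one_smul S c) (one_smul S c) D.K.one_mem D.K.one_mem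
  rw [one_mul] at h
  exact left_eq_mul.mp h

theorem cval_pow {x : S} {c : S ⧸ C.R} (hx : x • c = c) (hxK : (x : Ω) ∈ D.K) (n : ℕ) :
    cval D C (x ^ n) c = cval D C x c ^ n := by
  induction n with
  | zero => rw [pow_zero, pow_zero, cval_one]
  | succ n ih =>
    rw [pow_succ, pow_succ, cval_mul ?_ hx (D.K.pow_mem hxK n) hxK, ih]
    exact MulAction.mem_stabilizer_iff.mp (Subgroup.pow_mem _ (MulAction.mem_stabilizer_iff.mpr hx) n)

/-- The length of the orbit of `c` under `x`. -/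
noncomputable def period (C : Piece F) (x : S) (c : S ⧸ C.R) : ℕ :=
  Function.minimalPeriod (x • ·) c

/-- The number of orbits of length `ℓ` and value `a`. -/
noncomputable def orbCount (D : Data F A) (C : Piece F) (x : S) (ℓ : ℕ) (a : A) : ℕ :=
  Nat.card {q : orbitRel.Quotient (Subgroup.zpowers x) (S ⧸ C.R) //
    period C x q.out = ℓ ∧ cval D C (x ^ ℓ) q.out = a}

/-- The number of points in orbits of length `ℓ` and value `a`. -/
noncomputable def pointCount (D : Data F A) (C : Piece F) (x : S) (ℓ : ℕ) (a : A) : ℕ :=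
  Nat.card {c : S ⧸ C.R // period C x c = ℓ ∧ cval D C (x ^ ℓ) c = a}

/-- The number of points fixed by `x ^ ℓ` with value `b`. -/
noncomputable def cnt (D : Data F A) (C : Piece F) (x : S) (ℓ : ℕ) (b : A) : ℕ :=
  Nat.card {c : S ⧸ C.R // x ^ ℓ • c = c ∧ cval D C (x ^ ℓ) c = b}

/-- The product over the orbits of `x` of the values. -/
noncomputable def orbProd [Finite S] (D : Data F A) (C : Piece F) (x : S) : A :=
  letI := Fintype.ofFinite (Quotient (orbitRel (Subgroup.zpowers x) (S ⧸ C.R)))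
  ∏ q : Quotient (orbitRel (Subgroup.zpowers x) (S ⧸ C.R)), cval D C (x ^ period C x q.out) q.out

theorem period_pow_smul (x : S) (c : S ⧸ C.R) : x ^ period C x c • c = c :=
  pow_smul_eq_iff_minimalPeriod_dvd.mpr dvd_rfl

theorem period_zpow_smul (x : S) (i : ℤ) (c : S ⧸ C.R) :
    period C x (x ^ i • c) = period C x c := by
  have key : ∀ n : ℕ, x ^ n • (x ^ i • c) = x ^ i • c ↔ x ^ n • c = c := fun n => by
    rw [← mul_smul, ← zpow_natCast, ← zpow_add, add_comm, zpow_add, mul_smul, smul_left_cancel_iff,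
      zpow_natCast]
  refine Nat.dvd_antisymm (pow_smul_eq_iff_minimalPeriod_dvd.mp ?_)
    (pow_smul_eq_iff_minimalPeriod_dvd.mp ?_)
  · exact (key _).mpr (period_pow_smul x c)
  · exact (key _).mp (period_pow_smul x _)

theorem cval_zpow_smul {x : S} (hxK : (x : Ω) ∈ D.K) (i : ℤ) {ℓ : ℕ} {c : S ⧸ C.R}
    (h : x ^ ℓ • c = c) : cval D C (x ^ ℓ) (x ^ i • c) = cval D C (x ^ ℓ) c := by
  have := cval_smul (D := D) (u := x ^ i) h (D.K.pow_mem hxK ℓ)
  rwa [show x ^ i * x ^ ℓ * (x ^ i)⁻¹ = x ^ ℓ by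
    rw [← zpow_natCast, ← zpow_add, ← zpow_neg, ← zpow_add]; simp] at this

theorem pointCount_eq [Finite S] {x : S} (hxK : (x : Ω) ∈ D.K) (ℓ : ℕ) (a : A) :
    pointCount D C x ℓ a = ℓ * orbCount D C x ℓ a := by
  classical
  haveI : Fintype {q : orbitRel.Quotient (Subgroup.zpowers x) (S ⧸ C.R) //
    period C x q.out = ℓ ∧ cval D C (x ^ ℓ) q.out = a} := Fintype.ofFinite _
  let e := Subgroup.quotientEquivSigmaZMod C.R x
  have h1 : {c : S ⧸ C.R // period C x c = ℓ ∧ cval D C (x ^ ℓ) c = a} ≃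
      {σ : Σ q : orbitRel.Quotient (Subgroup.zpowers x) (S ⧸ C.R),
        ZMod (Function.minimalPeriod (x • ·) q.out) //
        period C x σ.1.out = ℓ ∧ cval D C (x ^ ℓ) σ.1.out = a} :=
    Equiv.subtypeEquiv e fun c => by
      have hc : c = x ^ ((e c).2.cast : ℤ) • (e c).1.out := by
        rw [← Subgroup.quotientEquivSigmaZMod_symm_apply]
        exact (e.symm_apply_apply c).symm
      conv_lhs => rw [hc, period_zpow_smul]
      refine and_congr_right fun h => ?_
      rw [cval_zpow_smul hxK _ (h ▸ period_pow_smul x _)]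
  rw [pointCount, Nat.card_congr (h1.trans (Equiv.subtypeSigmaEquiv
    (fun q : orbitRel.Quotient (Subgroup.zpowers x) (S ⧸ C.R) =>
      ZMod (Function.minimalPeriod (x • ·) q.out))
    fun q => period C x q.out = ℓ ∧ cval D C (x ^ ℓ) q.out = a)), Nat.card_sigma]
  simp only [Nat.card_zmod]
  rw [Finset.sum_congr rfl fun q _ => (show Function.minimalPeriod (x • ·) q.1.out = ℓ from q.2.1),
    Finset.sum_const, smul_eq_mul, orbCount, Nat.card_eq_fintype_card, mul_comm, Finset.card_univ]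

theorem orbProd_eq [Finite S] [Fintype A] (x : S) {n : ℕ} (hn : orderOf x ≤ n) :
    orbProd D C x =
      ∏ t ∈ Finset.range (n + 1) ×ˢ (Finset.univ : Finset A), t.2 ^ orbCount D C x t.1 t.2 := by
  classical
  rw [orbProd]
  letI := Fintype.ofFinite (Quotient (orbitRel (Subgroup.zpowers x) (S ⧸ C.R)))
  have hmaps : ∀ q ∈ (Finset.univ : Finset (Quotient (orbitRel (Subgroup.zpowers x) (S ⧸ C.R)))),
      (period C x q.out, cval D C (x ^ period C x q.out) q.out) ∈
        Finset.range (n + 1) ×ˢ (Finset.univ : Finset A) := fun q _ => by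
    refine Finset.mem_product.mpr ⟨Finset.mem_range.mpr (Nat.lt_succ_of_le ?_), Finset.mem_univ _⟩
    refine le_trans (Nat.le_of_dvd (orderOf_pos x) (pow_smul_eq_iff_minimalPeriod_dvd.mp ?_)) hn
    rw [pow_orderOf_eq_one, one_smul]
  rw [← Finset.prod_fiberwise_of_maps_to hmaps]
  refine Finset.prod_congr rfl fun t _ => ?_
  rw [orbCount, Nat.card_eq_fintype_card, Fintype.card_subtype, Finset.prod_congr rfl (g := fun _ => t.2)
    fun q hq => ?_, Finset.prod_const]
  · congr 1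
    refine congrArg Finset.card (Finset.filter_congr fun q _ => ?_)
    rw [Prod.ext_iff]
    exact ⟨fun h => ⟨h.1, h.1 ▸ h.2⟩, fun h => ⟨h.1, h.1.symm ▸ h.2⟩⟩
  · obtain ⟨-, hq⟩ := Finset.mem_filter.mp hq
    rw [← hq]

theorem cnt_eq_sum [Finite S] [Fintype A] [DecidableEq A] {x : S} (hxK : (x : Ω) ∈ D.K) {ℓ : ℕ}
    (hℓ : ℓ ≠ 0) (b : A) :
    cnt D C x ℓ b = ∑ t ∈ Transfer.below ℓ b, pointCount D C x t.1 t.2 := by
  classical
  haveI : Fintype (S ⧸ C.R) := Fintype.ofFinite _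
  simp only [cnt, pointCount, Nat.card_eq_fintype_card, Fintype.card_subtype]
  have hval : ∀ c : S ⧸ C.R, period C x c ∣ ℓ →
      cval D C (x ^ ℓ) c = cval D C (x ^ period C x c) c ^ (ℓ / period C x c) := fun c h => by
    rw [← cval_pow (period_pow_smul x c) (D.K.pow_mem hxK _), ← pow_mul, Nat.mul_div_cancel' h]
  rw [Finset.card_eq_sum_card_fiberwise (f := fun c => (period C x c, cval D C (x ^ period C x c) c))
    (t := Transfer.below ℓ b) fun c hc => ?_]
  · refine Finset.sum_congr rfl fun t ht => congrArg Finset.card ?_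
    simp only [Transfer.below, Finset.mem_filter, Finset.mem_product, Nat.mem_divisors] at ht
    rw [Finset.filter_filter]
    refine Finset.filter_congr fun c _ => ⟨fun h => ?_, fun h => ?_⟩
    · obtain ⟨-, h2⟩ := h
      rw [← h2]
      exact ⟨rfl, rfl⟩
    · obtain ⟨h1, h2⟩ := h
      have hd : period C x c ∣ ℓ := h1 ▸ ht.1.1.1
      refine ⟨⟨pow_smul_eq_iff_minimalPeriod_dvd.mpr hd, ?_⟩, by rw [h1, h2]⟩
      rw [hval c hd, h1, h2, ht.2]
  · obtain ⟨h1, h2⟩ := (Finset.mem_filter.mp hc).2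
    have hd : period C x c ∣ ℓ := pow_smul_eq_iff_minimalPeriod_dvd.mp h1
    simp only [Transfer.below, Finset.coe_filter, Set.mem_ofPred_eq, Finset.mem_product,
      Nat.mem_divisors, Finset.mem_univ, and_true]
    exact ⟨⟨hd, hℓ⟩, (hval c hd).symm.trans h2⟩

/-- The pairs on `⟨x ^ j⟩` with a given value. -/
def CntPair (D : Data F A) (x : S) (j : ℕ) (b : A) (t : Pair S A) : Prop :=
  IsVal D t ∧ t.P = Subgroup.zpowers ((x : Ω) ^ j) ∧ t.μ (x ^ j) = b

theorem cnt_eq_mk' [Finite S] [Finite A] {x : S} (hxK : (x : Ω) ∈ D.K) (j : ℕ) (b : A)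
    [Fintype (Pair S A)] [DecidablePred (CntPair D x j b)] :
    cnt D C x j b = ∑ t ∈ Finset.univ.filter (CntPair D x j b), mk' D C t := by
  have hPS : Subgroup.zpowers ((x : Ω) ^ j) ≤ S := Subgroup.zpowers_le.mpr (S.pow_mem x.2 j)
  have hjK : ((x ^ j : S) : Ω) ∈ D.K := by
    rw [Subgroup.coe_pow]
    exact D.K.pow_mem hxK j
  rw [← card_fix_where hPS (CntPair D x j b) fun t ht => ⟨ht.1, ht.2.1⟩]
  refine Nat.card_congr (Equiv.subtypeEquivRight fun c => ⟨fun h => ?_, fun ⟨t, ht, h⟩ => ?_⟩)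
  · have hfix : ∀ y : S, (y : Ω) ∈ Subgroup.zpowers ((x : Ω) ^ j) → y • c = c := by
      intro y hy
      obtain ⟨i, hi⟩ := Subgroup.mem_zpowers_iff.mp hy
      rw [show y = (x ^ j) ^ i from Subtype.ext (by rw [← hi]; simp)]
      exact MulAction.mem_stabilizer_iff.mp
        (Subgroup.zpow_mem _ (MulAction.mem_stabilizer_iff.mpr h.1) i)
    refine ⟨valPair D C hPS c, ⟨isVal_valPair hPS hfix, rfl, ?_⟩, valPair_fix hPS hfix⟩
    classical
    exact (if_pos ⟨by rw [Subgroup.coe_pow]; exact Subgroup.mem_zpowers _, hjK⟩).trans h.2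
  · have hm : ((x ^ j : S) : Ω) ∈ t.P := by
      rw [ht.2.1, Subgroup.coe_pow]
      exact Subgroup.mem_zpowers _
    obtain ⟨h1, h2⟩ := h _ hm
    exact ⟨h1, (h2 hjK).trans ht.2.2⟩

/-- The product of the orbit products over a stable list is invariant under the system. -/
theorem prod_orbProd_apply [Finite S] [Finite A] {L : List (Piece F)} (hst : StableFrom D L 0)
    {P : Subgroup Ω} {f : Ω → Ω} (hf : IsMap F P f) {a : Ω} (ha : a ∈ P) (haK : a ∈ D.K) :
    (L.map fun C => orbProd D C ⟨f a, hf.mem_S ha⟩).prod =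
      (L.map fun C => orbProd D C ⟨a, hf.le ha⟩).prod := by
  classical
  haveI : Fintype A := Fintype.ofFinite A
  haveI : Fintype (Pair S A) := Fintype.ofFinite _
  have hfK : f a ∈ D.K := D.closed hf a ha haK
  have key : ∀ (j : ℕ) (b : A), (L.map fun C => cnt D C ⟨f a, hf.mem_S ha⟩ j b).sum =
      (L.map fun C => cnt D C ⟨a, hf.le ha⟩ j b).sum := by
    intro j b
    have hg : IsMap F (Subgroup.zpowers (a ^ j)) f := hf.mono (Subgroup.zpowers_le.mpr (P.pow_mem ha j))
    have hi : img (Subgroup.zpowers (a ^ j)) f = Subgroup.zpowers ((f a) ^ j) := by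
      obtain ⟨φ, -, e⟩ := hf
      refine le_antisymm (IsMap.img_le_iff.mpr fun y hy => ?_) (Subgroup.zpowers_le.mpr ?_)
      · obtain ⟨i, rfl⟩ := Subgroup.mem_zpowers_iff.mp hy
        refine Subgroup.mem_zpowers_iff.mpr ⟨i, ?_⟩
        have h1 := map_zpow φ ((⟨a, ha⟩ : P) ^ j) i
        rw [map_pow, e, e] at h1
        exact h1.symm
      · have h1 := map_pow φ (⟨a, ha⟩ : P) j
        rw [e, e] at h1
        rw [← h1]
        exact IsMap.apply_mem_img (Subgroup.mem_zpowers _)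
    rw [List.map_congr_left fun C _ => cnt_eq_mk' (C := C) (x := ⟨f a, hf.mem_S ha⟩) hfK j b,
      List.map_congr_left fun C _ => cnt_eq_mk' (C := C) (x := ⟨a, hf.le ha⟩) haK j b,
      Transfer.list_sum_finset, Transfer.list_sum_finset]
    refine (sum_marks_map hst hg hi (Nat.zero_le _) (CntPair D ⟨a, hf.le ha⟩ j b)
      (CntPair D ⟨f a, hf.mem_S ha⟩ j b) (fun t ht => ⟨ht.1, ht.2.1⟩) (fun t ht => ⟨ht.1, ht.2.1⟩)
      fun t t' ht ht' h1 h2 hal => ?_).symm
    have hm : ((⟨a, hf.le ha⟩ ^ j : S) : Ω) ∈ t.P := by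
      rw [h1, Subgroup.coe_pow]
      exact Subgroup.mem_zpowers _
    have hval := hal (⟨a, hf.le ha⟩ ^ j) hm (by rw [Subgroup.coe_pow]; exact D.K.pow_mem haK j)
      (by rw [Subgroup.coe_pow, hf.map_pow ha]; exact S.pow_mem (hf.mem_S ha) j)
    rw [show (⟨f ((⟨a, hf.le ha⟩ ^ j : S) : Ω), _⟩ : S) = ⟨f a, hf.mem_S ha⟩ ^ j from
      Subtype.ext (by simp [hf.map_pow ha])] at hval
    constructor
    · rintro ⟨-, -, hb⟩
      exact ⟨ht', h2, hval.trans hb⟩
    · rintro ⟨-, -, hb⟩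
      exact ⟨ht, h1, hval.symm.trans hb⟩
  have horb : ∀ (ℓ : ℕ), ℓ ≠ 0 → ∀ b : A,
      (L.map fun C => orbCount D C ⟨f a, hf.mem_S ha⟩ ℓ b).sum =
        (L.map fun C => orbCount D C ⟨a, hf.le ha⟩ ℓ b).sum := by
    intro ℓ
    induction ℓ using Nat.strong_induction_on with
    | _ ℓ ih =>
      intro hℓ b
      have h := key ℓ b
      simp only [cnt_eq_sum (x := (⟨f a, hf.mem_S ha⟩ : S)) hfK hℓ,
        cnt_eq_sum (x := (⟨a, hf.le ha⟩ : S)) haK hℓ, pointCount_eq (x := (⟨f a, hf.mem_S ha⟩ : S)) hfK,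
        pointCount_eq (x := (⟨a, hf.le ha⟩ : S)) haK, Transfer.list_sum_finset, List.sum_map_mul_left] at h
      have hmem : (ℓ, b) ∈ Transfer.below ℓ b := by
        simp [Transfer.below, hℓ, Nat.div_self (Nat.pos_of_ne_zero hℓ)]
      rw [← Finset.add_sum_erase _ _ hmem, ← Finset.add_sum_erase _ _ hmem] at h
      have hrest : ∀ t ∈ (Transfer.below ℓ b).erase (ℓ, b),
          t.1 * (L.map fun C => orbCount D C ⟨f a, hf.mem_S ha⟩ t.1 t.2).sum =
            t.1 * (L.map fun C => orbCount D C ⟨a, hf.le ha⟩ t.1 t.2).sum := fun t ht => by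
        obtain ⟨hne, ht⟩ := Finset.mem_erase.mp ht
        simp only [Transfer.below, Finset.mem_filter, Finset.mem_product, Nat.mem_divisors] at ht
        have hlt : t.1 < ℓ := lt_of_le_of_ne (Nat.le_of_dvd (Nat.pos_of_ne_zero hℓ) ht.1.1.1)
          fun e => hne (by
            have h2 := ht.2
            rw [e, Nat.div_self (Nat.pos_of_ne_zero hℓ), pow_one] at h2
            exact Prod.ext e h2)
        rw [ih t.1 hlt (fun e => by simp [e] at ht) t.2]
      rw [Finset.sum_congr rfl hrest] at h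
      exact Nat.eq_of_mul_eq_mul_left (Nat.pos_of_ne_zero hℓ) (add_right_cancel h)
  have hord : ∀ y : S, orderOf y ≤ Nat.card S := fun y =>
    Nat.le_of_dvd Nat.card_pos (orderOf_dvd_natCard y)
  simp only [orbProd_eq _ (hord _)]
  have hswap : ∀ (M : List (Piece F)) (y : S) (s : Finset (ℕ × A)),
      (M.map fun C => ∏ t ∈ s, t.2 ^ orbCount D C y t.1 t.2).prod =
        ∏ t ∈ s, t.2 ^ (M.map fun C => orbCount D C y t.1 t.2).sum := by
    intro M y s
    induction M with
    | nil => simp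
    | cons C M ih => simp [ih, Finset.prod_mul_distrib, pow_add]
  rw [hswap, hswap]
  refine Finset.prod_congr rfl fun t _ => ?_
  rcases eq_or_ne t.1 0 with h0 | h0
  · have hz : ∀ (C : Piece F) (y : S), orbCount D C y t.1 t.2 = 0 := fun C y => by
      haveI : IsEmpty {q : orbitRel.Quotient (Subgroup.zpowers y) (S ⧸ C.R) //
          period C y q.out = t.1 ∧ cval D C (y ^ t.1) q.out = t.2} := by
        refine ⟨fun ⟨q, hq, _⟩ => ?_⟩
        have := pow_smul_eq_iff_minimalPeriod_dvd.mp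
          (show y ^ orderOf y • q.out = q.out by rw [pow_orderOf_eq_one, one_smul])
        rw [show Function.minimalPeriod (y • ·) q.out = 0 from hq.trans h0, zero_dvd_iff] at this
        exact (orderOf_pos y).ne' this
      exact Nat.card_of_isEmpty
    simp [hz]
  · rw [horb t.1 h0 t.2]

/-- The restriction of `h` to `K` as a homomorphism. -/
def Data.hom (D : Data F A) : D.K →* A := MonoidHom.mk' (fun x => D.h x) fun x y => D.hmul _ x.2 _ y.2

/-- Invariant homomorphisms on the hyperfocal subgroup extend to `S`. -/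
theorem exists_extension [Finite S] [Finite A] [Fact p.Prime] (hS : IsPGroup p S) (hA : IsPGroup p A)
    (hF : F.IsSaturated p) (D : Data F A) (hK : D.K = F.hyperfocalSubgroup p) :
    ∃ χ : S →* A, ∀ x : S, (x : Ω) ∈ D.K → χ x = D.h x := by
  classical
  obtain ⟨L, hN, hst⟩ := exists_stable hS hF D
  have hclass : ∀ C : Piece F, ∃ s ∈ S, ∀ r : C.R,
      ((r : S) : Ω)⁻¹ * (s * C.g (r : S) * s⁻¹) ∈ D.K := by
    intro C
    obtain ⟨s, hs, h⟩ := innerMod_hyperfocal hS hF C.hg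
    rw [← hK] at h
    refine ⟨s⁻¹, S.inv_mem hs, fun r => ?_⟩
    have h1 := D.conj_mem (S.inv_mem hs) (h _ ⟨_, r.2, rfl⟩)
    rw [inv_inv] at h1 ⊢
    simp only [Subgroup.coe_subtype] at h1
    convert h1 using 1
    group
  choose s hs hsK using hclass
  let tC : ∀ C : Piece F, C.R →* A := fun C =>
    MonoidHom.mk' (fun r => D.h (((r : S) : Ω)⁻¹ * (s C * C.g (r : S) * (s C)⁻¹))) fun r r' => by
      have hr : ((r : S) : Ω) ∈ C.R.map S.subtype := ⟨_, r.2, rfl⟩
      have hr' : ((r' : S) : Ω) ∈ C.R.map S.subtype := ⟨_, r'.2, rfl⟩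
      have h1 := hsK C r
      have h2 := hsK C r'
      have hi : ((r' : S) : Ω)⁻¹ ∈ S := S.inv_mem (r' : S).2
      have h3 := D.conj_mem hi h1
      rw [inv_inv] at h3
      show D.h ((((r * r' : C.R) : S) : Ω)⁻¹ * (s C * C.g ((r * r' : C.R) : S) * (s C)⁻¹)) = _
      rw [show (((r * r' : C.R) : S) : Ω) = ((r : S) : Ω) * ((r' : S) : Ω) from rfl, C.hg.map_mul hr hr',
        show (((r : S) : Ω) * ((r' : S) : Ω))⁻¹ * (s C * (C.g (r : S) * C.g (r' : S)) * (s C)⁻¹) =
          (((r' : S) : Ω)⁻¹ * (((r : S) : Ω)⁻¹ * (s C * C.g (r : S) * (s C)⁻¹)) * ((r' : S) : Ω)) *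
            (((r' : S) : Ω)⁻¹ * (s C * C.g (r' : S) * (s C)⁻¹)) by group,
        D.hmul _ h3 _ h2]
      congr 1
      have := D.hconj _ hi _ h1
      rwa [inv_inv] at this
  have htK : ∀ (C : Piece F) (r : C.R), ((r : S) : Ω) ∈ D.K →
      D.h ((r : S) : Ω) * tC C r = D.h (C.g (r : S)) := by
    intro C r hr
    have hg : C.g (r : S) ∈ D.K := D.closed C.hg _ ⟨_, r.2, rfl⟩ hr
    show D.h _ * D.h (((r : S) : Ω)⁻¹ * (s C * C.g (r : S) * (s C)⁻¹)) = _
    rw [← D.hmul _ hr _ (hsK C r), mul_inv_cancel_left, D.hconj _ (hs C) _ hg]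
  let τ : S →* A := MonoidHom.mk' (fun x => (L.map fun C => MonoidHom.transfer (tC C) x).prod)
    fun a b => by simp [List.prod_map_mul]
  -- on `K` the product of the orbit values
  have hτ : ∀ x : S, (x : Ω) ∈ D.K →
      D.h x ^ degree L * τ x = (L.map fun C => orbProd D C x).prod := by
    intro x hx
    have hC : ∀ C ∈ L, D.h x ^ C.R.index * MonoidHom.transfer (tC C) x = orbProd D C x := by
      intro C _
      rw [orbProd]
      letI := Fintype.ofFinite (Quotient (orbitRel (Subgroup.zpowers x) (S ⧸ C.R)))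
      rw [MonoidHom.transfer_eq_prod_quotient_orbitRel_zpowers_quot,
        Subgroup.index_eq_sum_minimalPeriod C.R x, ← Finset.prod_pow_eq_pow_sum,
        ← Finset.prod_mul_distrib]
      refine Finset.prod_congr rfl fun q _ => ?_
      set ℓ := Function.minimalPeriod (x • ·) q.out
      have hm : q.out.out⁻¹ * x ^ ℓ * q.out.out ∈ C.R :=
        QuotientGroup.out_conj_pow_minimalPeriod_mem C.R x q.out
      have hxl : ((x ^ ℓ : S) : Ω) ∈ D.K := by
        rw [Subgroup.coe_pow]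
        exact D.K.pow_mem hx ℓ
      have hmK := conj_mem_K (D := D) hxl q.out.out
      show D.h x ^ ℓ * tC C ⟨_, hm⟩ = D.h (C.g ((q.out.out⁻¹ * x ^ ℓ * q.out.out : S) : Ω))
      rw [← htK C ⟨_, hm⟩ hmK]
      congr 1
      have h1 : D.h ((x : Ω) ^ ℓ) = D.h x ^ ℓ := by
        have := map_pow D.hom (⟨(x : Ω), hx⟩ : D.K) ℓ
        exact this
      rw [← h1]
      have h2 := D.hconj _ (S.inv_mem q.out.out.2) _ (D.K.pow_mem hx ℓ)
      rw [← h2]
      congr 1
      simp
    show D.h x ^ degree L * (L.map fun C => MonoidHom.transfer (tC C) x).prod = _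
    rw [← List.map_congr_left hC, degree]
    clear hC hst hN τ
    induction L with
    | nil => simp
    | cons C L ih =>
      simp only [List.map_cons, List.sum_cons, List.prod_cons, pow_add]
      rw [mul_mul_mul_comm, ih]
  -- the invariant on `K`
  let Φ : D.K →* A := (D.hom ^ degree L) * τ.comp (Subgroup.inclusion D.le)
  have hΦ : ∀ (x : Ω) (hx : x ∈ D.K),
      Φ ⟨x, hx⟩ = (L.map fun C => orbProd D C ⟨x, D.le hx⟩).prod := fun x hx => hτ ⟨x, D.le hx⟩ hx
  have hΦconj : ∀ (u : S) (x : Ω) (hx : x ∈ D.K),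
      Φ ⟨(u : Ω) * x * (u : Ω)⁻¹, D.conj_mem u.2 hx⟩ = Φ ⟨x, hx⟩ := fun u x hx => by
    show D.h _ ^ degree L * τ ⟨(u : Ω) * x * (u : Ω)⁻¹, _⟩ = D.h x ^ degree L * τ ⟨x, D.le hx⟩
    rw [D.hconj u u.2 x hx,
      show (⟨(u : Ω) * x * (u : Ω)⁻¹, D.le (D.conj_mem u.2 hx)⟩ : S) = u * ⟨x, D.le hx⟩ * u⁻¹ from rfl,
      map_mul, map_mul, map_inv, mul_inv_cancel_comm]
  have hkill : ∀ (P : Subgroup Ω) (α : F.autGroup P), P ≤ S → (orderOf α).Coprime p → ∀ x : P,
      ∃ h : (x : Ω)⁻¹ * ((α : MulAut P) x : P) ∈ D.K, Φ ⟨_, h⟩ = 1 := by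
    intro P α hP hα x
    have hm := (isMap_autFun (F := F) hP).mpr α.2
    have hk : ∀ y : P, (y : Ω)⁻¹ * ((α : MulAut P) y : P) ∈ D.K := fun y => by
      rw [hK]
      have := mem_hyperfocalSubgroup hP (Cfsg.Lib.Transfer.mem_pResidual_of_coprime hα) y.2
      rwa [autFun_apply] at this
    let T : P →* A := MonoidHom.mk' (fun y => Φ ⟨_, hk y⟩) fun y z => by
      have e : ((y * z : P) : Ω)⁻¹ * ((α : MulAut P) (y * z) : P) =
          ((z : Ω)⁻¹ * ((y : Ω)⁻¹ * ((α : MulAut P) y : P)) * ((z : Ω)⁻¹)⁻¹) *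
            ((z : Ω)⁻¹ * ((α : MulAut P) z : P)) := by
        rw [map_mul]
        simp only [Subgroup.coe_mul]
        group
      have hc := D.conj_mem (S.inv_mem (hP z.2)) (hk y)
      rw [show (⟨_, hk (y * z)⟩ : D.K) = ⟨_, hc⟩ * ⟨_, hk z⟩ from Subtype.ext e, map_mul,
        hΦconj ⟨(z : Ω)⁻¹, S.inv_mem (hP z.2)⟩ _ (hk y)]
    have hTK : ∀ y : P, (y : Ω) ∈ D.K → T y = 1 := fun y hy => by
      have hy' : ((α : MulAut P) y : Ω) ∈ D.K := by
        rw [← autFun_apply]
        exact D.closed hm _ y.2 hy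
      show Φ ⟨_, hk y⟩ = 1
      rw [show (⟨_, hk y⟩ : D.K) = (⟨(y : Ω), hy⟩ : D.K)⁻¹ * ⟨_, hy'⟩ from rfl, map_mul, map_inv,
        inv_mul_eq_one, hΦ _ hy, hΦ _ hy']
      have h := prod_orbProd_apply hst hm y.2 hy
      refine h.symm.trans (congrArg List.prod (List.map_congr_left fun C _ => ?_))
      exact congrArg (orbProd D C) (Subtype.ext (autFun_apply _ _))
    have hTα : ∀ y : P, T ((α : MulAut P) y) = T y := fun y => by
      have : T (y⁻¹ * (α : MulAut P) y) = 1 := hTK _ (hk y)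
      rwa [map_mul, map_inv, inv_mul_eq_one, eq_comm] at this
    have hiter : ∀ n : ℕ, ∀ y : P,
        ∃ h : (y : Ω)⁻¹ * (((α : MulAut P) ^ n) y : P) ∈ D.K, Φ ⟨_, h⟩ = T y ^ n := by
      intro n
      induction n with
      | zero =>
        intro y
        have e : (y : Ω)⁻¹ * (((α : MulAut P) ^ 0) y : P) = 1 := by simp
        refine ⟨by rw [e]; exact D.K.one_mem, ?_⟩
        rw [pow_zero (T y), show (⟨_, _⟩ : D.K) = 1 from Subtype.ext e, map_one]
      | succ n ih =>
        intro y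
        obtain ⟨h, hh⟩ := ih ((α : MulAut P) y)
        rw [hTα] at hh
        have e : (y : Ω)⁻¹ * (((α : MulAut P) ^ (n + 1)) y : P) =
            ((y : Ω)⁻¹ * ((α : MulAut P) y : P)) *
              ((((α : MulAut P) y : P) : Ω)⁻¹ * (((α : MulAut P) ^ n) ((α : MulAut P) y) : P)) := by
          rw [pow_succ, MulAut.mul_apply]
          group
        refine ⟨by rw [e]; exact D.K.mul_mem (hk y) h, ?_⟩
        rw [show (⟨_, _⟩ : D.K) = (⟨_, hk y⟩ : D.K) * ⟨_, h⟩ from Subtype.ext e, map_mul, hh, pow_succ']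
        rfl
    refine ⟨hk x, ?_⟩
    obtain ⟨h, hh⟩ := hiter (orderOf α) x
    have e : (x : Ω)⁻¹ * (((α : MulAut P) ^ orderOf α) x : P) = 1 := by
      rw [← Subgroup.coe_pow, pow_orderOf_eq_one]
      simp
    rw [show (⟨_, h⟩ : D.K) = 1 from Subtype.ext e, map_one] at hh
    obtain ⟨k, hk'⟩ := hA (T x)
    exact orderOf_eq_one_iff.mp (Nat.eq_one_of_dvd_coprimes ((Nat.Coprime.symm hα).pow_left k)
      (orderOf_dvd_of_pow_eq_one hk') (orderOf_dvd_of_pow_eq_one hh.symm))
  -- `Φ` is trivial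
  have hΦ1 : F.hyperfocalSubgroup p ≤ Φ.ker.map D.K.subtype := by
    rw [FusionSystem.hyperfocalSubgroup, Subgroup.closure_le]
    rintro _ ⟨P, α, x, hP, hα, rfl⟩
    have hα' : α ∈ Subgroup.closure {g : F.autGroup P | (orderOf g).Coprime p} := hα
    clear hα
    revert x
    induction hα' using Subgroup.closure_induction with
    | mem β hβ =>
      intro x
      obtain ⟨h, hh⟩ := hkill P β hP hβ x
      exact ⟨⟨_, h⟩, hh, rfl⟩
    | one =>
      intro x
      simp [Subgroup.one_mem]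
    | mul a b _ _ iha ihb =>
      intro x
      have h := Subgroup.mul_mem _ (ihb x) (iha ((b : MulAut P) x))
      show _ ∈ Φ.ker.map D.K.subtype
      convert h using 1
      show (x : Ω)⁻¹ * (((a : MulAut P) * (b : MulAut P)) x : P) = _
      rw [MulAut.mul_apply]
      group
    | inv a _ iha =>
      intro x
      have h := Subgroup.inv_mem _ (iha (((a⁻¹ : F.autGroup P) : MulAut P) x))
      show _ ∈ Φ.ker.map D.K.subtype
      convert h using 1
      show (x : Ω)⁻¹ * ((((a : MulAut P))⁻¹) x : P) = _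
      simp
  obtain ⟨k, hk⟩ := hA.exists_card_eq
  have hcop : (Nat.card A).Coprime (degree L) := by
    rw [hk]
    exact Nat.Coprime.pow_left k (((Fact.out : p.Prime).coprime_iff_not_dvd.mpr hN))
  let e : A ≃* A := MulEquiv.ofBijective (powMonoidHom (degree L)) (powCoprime hcop).bijective
  refine ⟨e.symm.toMonoidHom.comp τ⁻¹, fun x hx => ?_⟩
  have hx1 : Φ ⟨(x : Ω), hx⟩ = 1 := by
    obtain ⟨y, hy, e⟩ := hΦ1 (hK ▸ hx)
    exact (Subtype.ext e : y = ⟨(x : Ω), hx⟩) ▸ hy
  have e' : τ x = (D.h x ^ degree L)⁻¹ := eq_inv_of_mul_eq_one_right hx1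
  show e.symm (τ x)⁻¹ = D.h x
  rw [e', inv_inv]
  exact e.symm_apply_apply (D.h x)

end Cfsg.Lib.Fusion.RelTransfer
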