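import Cfsg.Agent.Fusion.Transfer.Tau

/-!
Marks of monomial sets with values defined on a strongly closed subgroup `K`, coming from a homomorphism on `K`
invariant under `S`.
-/

set_option autoImplicit false

namespace Cfsg.Lib.Fusion.RelTransfer

open Cfsg Cfsg.FusionSystem MulAction

variable {Ω : Type*} [Group Ω] {S : Subgroup Ω} {F : FusionSystem S} {A : Type*} [CommGroup A]

/-- A homomorphism on a strongly closed subgroup invariant under `S`. -/
structure Data (F : FusionSystem S) (A : Type*) [CommGroup A] where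
  K : Subgroup Ω
  h : Ω → A
  le : K ≤ S
  closed : ∀ {P : Subgroup Ω} {f : Ω → Ω}, IsMap F P f → ∀ x ∈ P, x ∈ K → f x ∈ K
  hmul : ∀ x ∈ K, ∀ y ∈ K, h (x * y) = h x * h y
  hconj : ∀ s ∈ S, ∀ x ∈ K, h (s * x * s⁻¹) = h x

theorem Data.conj_mem (D : Data F A) {s x : Ω} (hs : s ∈ S) (hx : x ∈ D.K) : s * x * s⁻¹ ∈ D.K :=
  D.closed (isMap_conj le_rfl hs) x (D.le hx) hx

/-- A transitive piece: the cosets of `R`, valued through a map of the system. -/
structure Piece (F : FusionSystem S) where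
  R : Subgroup S
  g : Ω → Ω
  hg : IsMap F (R.map S.subtype) g

variable {D : Data F A} {C : Piece F}

/-- The value of `x` at a coset it fixes. -/
noncomputable def cval (D : Data F A) (C : Piece F) (x : S) (c : S ⧸ C.R) : A :=
  D.h (C.g ((c.out⁻¹ * x * c.out : S) : Ω))

theorem smul_mk_eq_iff {x s : S} :
    x • (QuotientGroup.mk s : S ⧸ C.R) = QuotientGroup.mk s ↔ s⁻¹ * x * s ∈ C.R := by
  show (QuotientGroup.mk (x * s) : S ⧸ C.R) = QuotientGroup.mk s ↔ _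
  rw [eq_comm, QuotientGroup.eq, mul_assoc]

theorem conj_mem_K {x : S} (hxK : (x : Ω) ∈ D.K) (s : S) : ((s⁻¹ * x * s : S) : Ω) ∈ D.K := by
  have := D.conj_mem (s⁻¹ : S).2 hxK
  simpa using this

theorem cval_eq {x s : S} (hx : s⁻¹ * x * s ∈ C.R) (hxK : (x : Ω) ∈ D.K) :
    cval D C x (QuotientGroup.mk s) = D.h (C.g ((s⁻¹ * x * s : S) : Ω)) := by
  set c : S ⧸ C.R := QuotientGroup.mk s
  have hr : s⁻¹ * c.out ∈ C.R := QuotientGroup.eq.mp (QuotientGroup.out_eq' c).symm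
  set r := s⁻¹ * c.out with hrdef
  have e : ((c.out⁻¹ * x * c.out : S) : Ω) =
      ((r⁻¹ : S) : Ω) * ((s⁻¹ * x * s : S) : Ω) * ((r⁻¹ : S) : Ω)⁻¹ := by
    simp [hrdef, mul_assoc]
  have hrm : ((r⁻¹ : S) : Ω) ∈ C.R.map S.subtype := ⟨_, C.R.inv_mem hr, rfl⟩
  have hym : ((s⁻¹ * x * s : S) : Ω) ∈ C.R.map S.subtype := ⟨_, hx, rfl⟩
  rw [cval, e, C.hg.map_conj hrm hym, D.hconj _ (C.hg.mem_S hrm) _ (D.closed C.hg _ hym (conj_mem_K hxK s))]

theorem cval_mul {x y : S} {c : S ⧸ C.R} (hx : x • c = c) (hy : y • c = c) (hxK : (x : Ω) ∈ D.K)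
    (hyK : (y : Ω) ∈ D.K) : cval D C (x * y) c = cval D C x c * cval D C y c := by
  induction c using QuotientGroup.induction_on with
  | H s =>
    have h1 := smul_mk_eq_iff.mp hx
    have h2 := smul_mk_eq_iff.mp hy
    have e : s⁻¹ * (x * y) * s = (s⁻¹ * x * s) * (s⁻¹ * y * s) := by group
    rw [cval_eq h1 hxK, cval_eq h2 hyK, cval_eq (e ▸ C.R.mul_mem h1 h2) (D.K.mul_mem hxK hyK), e]
    have m1 : ((s⁻¹ * x * s : S) : Ω) ∈ C.R.map S.subtype := ⟨_, h1, rfl⟩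
    have m2 : ((s⁻¹ * y * s : S) : Ω) ∈ C.R.map S.subtype := ⟨_, h2, rfl⟩
    rw [Subgroup.coe_mul (S) (s⁻¹ * x * s) (s⁻¹ * y * s), C.hg.map_mul m1 m2,
      D.hmul _ (D.closed C.hg _ m1 (conj_mem_K hxK s)) _ (D.closed C.hg _ m2 (conj_mem_K hyK s))]

theorem cval_smul {x u : S} {c : S ⧸ C.R} (hx : x • c = c) (hxK : (x : Ω) ∈ D.K) :
    cval D C (u * x * u⁻¹) (u • c) = cval D C x c := by
  induction c using QuotientGroup.induction_on with
  | H s =>
    have h1 := smul_mk_eq_iff.mp hx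
    show cval D C (u * x * u⁻¹) (QuotientGroup.mk (u * s)) = _
    have e : (u * s)⁻¹ * (u * x * u⁻¹) * (u * s) = s⁻¹ * x * s := by group
    rw [cval_eq h1 hxK, cval_eq (e.symm ▸ h1) (D.conj_mem u.2 hxK), e]

/-- A subgroup of `S` with a function on `S`. -/
structure Pair (S : Subgroup Ω) (A : Type*) where
  P : Subgroup Ω
  le : P ≤ S
  μ : S → A

theorem pair_ext {q r : Pair S A} (hP : q.P = r.P) (hμ : q.μ = r.μ) : q = r := by
  cases q; cases r
  dsimp only at hP hμ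
  subst hP hμ
  rfl

instance finite_pair [Finite S] [Finite A] : Finite (Pair S A) := by
  refine Finite.of_injective (fun q : Pair S A => ((q.P.subgroupOf S, q.μ) : Subgroup S × (S → A)))
    fun q r h => ?_
  obtain ⟨h1, h2⟩ := Prod.ext_iff.mp h
  refine pair_ext ?_ h2
  rw [← Subgroup.map_subgroupOf_eq_of_le q.le, ← Subgroup.map_subgroupOf_eq_of_le r.le]
  exact congrArg (Subgroup.map S.subtype) h1

/-- The function comes from a map of the system, and is trivial outside `P ⊓ K`. -/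
def IsVal (D : Data F A) (q : Pair S A) : Prop :=
  (∃ g, IsMap F q.P g ∧ ∀ x : S, (x : Ω) ∈ q.P → (x : Ω) ∈ D.K → q.μ x = D.h (g x)) ∧
    ∀ x : S, ¬((x : Ω) ∈ q.P ∧ (x : Ω) ∈ D.K) → q.μ x = 1

theorem IsVal.conj_eq {q : Pair S A} (hq : IsVal D q) {u x : S} (hu : (u : Ω) ∈ q.P)
    (hx : (x : Ω) ∈ q.P) (hxK : (x : Ω) ∈ D.K) : q.μ (u * x * u⁻¹) = q.μ x := by
  obtain ⟨⟨g, hg, hgμ⟩, -⟩ := hq
  rw [hgμ x hx hxK, hgμ _ (q.P.mul_mem (q.P.mul_mem hu hx) (q.P.inv_mem hu)) (D.conj_mem u.2 hxK)]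
  show D.h (g ((u : Ω) * x * (u : Ω)⁻¹)) = _
  rw [hg.map_conj hu hx, D.hconj _ (hg.mem_S hu) _ (D.closed hg _ hx hxK)]

/-- The coset is fixed by the subgroup with the given values. -/
def Fix (D : Data F A) (C : Piece F) (q : Pair S A) (c : S ⧸ C.R) : Prop :=
  ∀ x : S, (x : Ω) ∈ q.P → x • c = c ∧ ((x : Ω) ∈ D.K → cval D C x c = q.μ x)

/-- The mark of a piece. -/
noncomputable def mk' (D : Data F A) (C : Piece F) (q : Pair S A) : ℕ :=
  Nat.card {c : S ⧸ C.R // Fix D C q c}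

/-- The mark of a list of pieces. -/
noncomputable def mark (D : Data F A) (L : List (Piece F)) (q : Pair S A) : ℕ :=
  (L.map fun C => mk' D C q).sum

open Classical in
/-- The values of `P` at a coset it fixes. -/
noncomputable def valPair (D : Data F A) (C : Piece F) {P : Subgroup Ω} (hP : P ≤ S) (c : S ⧸ C.R) :
    Pair S A :=
  ⟨P, hP, fun x => if (x : Ω) ∈ P ∧ (x : Ω) ∈ D.K then cval D C x c else 1⟩

theorem valPair_fix {P : Subgroup Ω} (hP : P ≤ S) {c : S ⧸ C.R}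
    (h : ∀ x : S, (x : Ω) ∈ P → x • c = c) : Fix D C (valPair D C hP c) c :=
  fun x hx => ⟨h x hx, fun hxK => (if_pos (show (x : Ω) ∈ P ∧ (x : Ω) ∈ D.K from ⟨hx, hxK⟩)).symm⟩

theorem isVal_valPair {P : Subgroup Ω} (hP : P ≤ S) {c : S ⧸ C.R}
    (h : ∀ x : S, (x : Ω) ∈ P → x • c = c) : IsVal D (valPair D C hP c) := by
  classical
  refine ⟨?_, fun x hx => if_neg hx⟩
  induction c using QuotientGroup.induction_on with
  | H s =>
    have hmem : ∀ x ∈ P, (s : Ω)⁻¹ * x * ((s : Ω)⁻¹)⁻¹ ∈ C.R.map S.subtype := fun x hx =>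
      ⟨_, smul_mk_eq_iff.mp (h ⟨x, hP hx⟩ hx), by simp⟩
    refine ⟨C.g ∘ fun x => (s : Ω)⁻¹ * x * ((s : Ω)⁻¹)⁻¹,
      (isMap_conj hP (S.inv_mem s.2)).comp C.hg hmem, fun x hx hxK => ?_⟩
    show (if (x : Ω) ∈ P ∧ (x : Ω) ∈ D.K then _ else _) = _
    rw [if_pos ⟨hx, hxK⟩, cval_eq (smul_mk_eq_iff.mp (h x hx)) hxK]
    simp

theorem fix_unique {q r : Pair S A} (hq : IsVal D q) (hr : IsVal D r) (hP : q.P = r.P) {c : S ⧸ C.R}
    (h : Fix D C q c) (h' : Fix D C r c) : q = r := by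
  refine pair_ext hP (funext fun x => ?_)
  by_cases hx : (x : Ω) ∈ q.P ∧ (x : Ω) ∈ D.K
  · exact ((h x hx.1).2 hx.2).symm.trans ((h' x (hP ▸ hx.1)).2 hx.2)
  · rw [hq.2 x hx, hr.2 x fun h'' => hx ⟨hP.symm ▸ h''.1, h''.2⟩]

/-- Cosets fixed by `P` with a condition on the values. -/
theorem card_fix_where [Finite S] [Finite A] {P : Subgroup Ω} (hP : P ≤ S) (Q : Pair S A → Prop)
    [DecidablePred Q] [Fintype (Pair S A)] (hQ : ∀ t, Q t → IsVal D t ∧ t.P = P) :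
    Nat.card {c : S ⧸ C.R // ∃ t, Q t ∧ Fix D C t c} = ∑ t ∈ Finset.univ.filter Q, mk' D C t := by
  classical
  haveI : Fintype (S ⧸ C.R) := Fintype.ofFinite _
  have e : ∀ t, mk' D C t = (Finset.univ.filter fun c : S ⧸ C.R => Fix D C t c).card := fun t => by
    rw [mk', Nat.card_eq_fintype_card, Fintype.card_subtype]
  simp only [e]
  rw [Nat.card_eq_fintype_card, Fintype.card_subtype, ← Finset.card_biUnion]
  · congr 1
    ext c
    simp
  · intro t ht t' ht' hne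
    rw [Function.onFun, Finset.disjoint_left]
    intro c hc hc'
    simp only [Finset.coe_filter, Finset.mem_univ, true_and, Set.mem_ofPred_eq] at ht ht'
    simp only [Finset.mem_filter, Finset.mem_univ, true_and] at hc hc'
    exact hne (fix_unique (hQ t ht).1 (hQ t' ht').1 ((hQ t ht).2.trans (hQ t' ht').2.symm) hc hc')

/-- Conjugacy inside `S`. -/
def SRel (D : Data F A) (q r : Pair S A) : Prop :=
  ∃ u : S, (∀ x : S, (x : Ω) ∈ q.P ↔ ((u * x * u⁻¹ : S) : Ω) ∈ r.P) ∧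
    ∀ x : S, (x : Ω) ∈ q.P → (x : Ω) ∈ D.K → r.μ (u * x * u⁻¹) = q.μ x

theorem fix_conj {q r : Pair S A} (u : S)
    (hPQ : ∀ x : S, (x : Ω) ∈ q.P ↔ ((u * x * u⁻¹ : S) : Ω) ∈ r.P)
    (hval : ∀ x : S, (x : Ω) ∈ q.P → (x : Ω) ∈ D.K → r.μ (u * x * u⁻¹) = q.μ x)
    {c : S ⧸ C.R} : Fix D C q c ↔ Fix D C r (u • c) := by
  constructor
  · intro h y hy
    have hxy : u * (u⁻¹ * y * u) * u⁻¹ = y := by group
    have hx : ((u⁻¹ * y * u : S) : Ω) ∈ q.P := (hPQ _).mpr (hxy.symm ▸ hy)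
    obtain ⟨h1, h2⟩ := h _ hx
    have h3 : y • (u • c) = u • c := by
      rw [← hxy, ← mul_smul, inv_mul_cancel_right, mul_smul, h1]
    refine ⟨h3, fun hyK => ?_⟩
    have hxK := conj_mem_K (D := D) hyK u
    have h4 := cval_smul (D := D) (u := u) h1 hxK
    rw [hxy] at h4
    rw [h4, h2 hxK, ← hval _ hx hxK, hxy]
  · intro h x hx
    obtain ⟨h1, h2⟩ := h _ ((hPQ x).mp hx)
    have h3 : x • c = c := by
      rwa [← mul_smul, inv_mul_cancel_right, mul_smul, smul_left_cancel_iff] at h1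
    exact ⟨h3, fun hxK => by
      rw [← hval x hx hxK, ← h2 (D.conj_mem u.2 hxK), cval_smul h3 hxK]⟩

theorem SRel.mark_eq {q r : Pair S A} (h : SRel D q r) (L : List (Piece F)) : mark D L q = mark D L r := by
  obtain ⟨u, hu, hμ⟩ := h
  refine congrArg List.sum (List.map_congr_left fun C _ => ?_)
  exact Nat.card_congr (Equiv.subtypeEquiv (MulAction.toPerm u) fun c => fix_conj u hu hμ)

/-- The stabiliser of a pair. -/
def pairStab (D : Data F A) (q : Pair S A) : Subgroup S where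
  carrier := {u | (∀ x : S, (x : Ω) ∈ q.P ↔ ((u * x * u⁻¹ : S) : Ω) ∈ q.P) ∧
    ∀ x : S, (x : Ω) ∈ q.P → (x : Ω) ∈ D.K → q.μ (u * x * u⁻¹) = q.μ x}
  one_mem' := ⟨fun x => by simp, fun x _ _ => by simp⟩
  mul_mem' := by
    rintro a b ⟨ha, ha'⟩ ⟨hb, hb'⟩
    have e : ∀ x : S, a * b * x * (a * b)⁻¹ = a * (b * x * b⁻¹) * a⁻¹ := fun x => by group
    exact ⟨fun x => by rw [e]; exact (hb x).trans (ha _), fun x hx hxK => by
      rw [e, ha' _ ((hb x).mp hx) (D.conj_mem b.2 hxK), hb' x hx hxK]⟩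
  inv_mem' := by
    rintro a ⟨ha, ha'⟩
    have e : ∀ x : S, a * (a⁻¹ * x * a⁻¹⁻¹) * a⁻¹ = x := fun x => by group
    refine ⟨fun x => ?_, fun x hx hxK => ?_⟩
    · rw [ha (a⁻¹ * x * a⁻¹⁻¹), e]
    · have h1 : ((a⁻¹ * x * a⁻¹⁻¹ : S) : Ω) ∈ q.P := by rw [ha, e]; exact hx
      have h2 := ha' _ h1 (D.conj_mem (a⁻¹ : S).2 hxK)
      rw [e] at h2
      exact h2.symm

theorem subgroupOf_le_pairStab {q : Pair S A} (hq : IsVal D q) : q.P.subgroupOf S ≤ pairStab D q := by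
  intro u hu
  have hu' : (u : Ω) ∈ q.P := hu
  refine ⟨fun x => ⟨fun hx => q.P.mul_mem (q.P.mul_mem hu' hx) (q.P.inv_mem hu'), fun hx => ?_⟩,
    fun x hx hxK => hq.conj_eq hu' hx hxK⟩
  have h : (u : Ω)⁻¹ * ((u * x * u⁻¹ : S) : Ω) * u ∈ q.P :=
    q.P.mul_mem (q.P.mul_mem (q.P.inv_mem hu') hx) hu'
  simpa [mul_assoc] using h

/-- Fixed cosets also fixed by `w`, over a list of pieces. -/
noncomputable def ext' (D : Data F A) (L : List (Piece F)) (q : Pair S A) (w : S) : ℕ :=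
  (L.map fun C => Nat.card {c : S ⧸ C.R // Fix D C q c ∧ w • c = c}).sum

theorem dvd_sum_ext' [Finite S] (L : List (Piece F)) (q : Pair S A) {U : Subgroup S}
    (hU : U ≤ pairStab D q) [Fintype U] : Nat.card U ∣ ∑ u : U, ext' D L q (u : S) := by
  classical
  simp only [ext']
  rw [← Transfer.list_sum_finset]
  refine List.dvd_sum fun a ha => ?_
  obtain ⟨C, -, rfl⟩ := List.mem_map.mp ha
  have hmove : ∀ (u : U) (c : S ⧸ C.R), Fix D C q c → Fix D C q ((u : S) • c) := fun u c hc =>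
    (fix_conj (u : S) (hU u.2).1 (hU u.2).2).mp hc
  letI : MulAction U {c : S ⧸ C.R // Fix D C q c} :=
    { smul := fun u c => ⟨(u : S) • c.1, hmove u c.1 c.2⟩
      one_smul := fun c => Subtype.ext (one_smul S c.1)
      mul_smul := fun a b c => Subtype.ext (mul_smul (a : S) (b : S) c.1) }
  haveI : Fintype {c : S ⧸ C.R // Fix D C q c} := Fintype.ofFinite _
  haveI : ∀ u : U, Fintype (fixedBy {c : S ⧸ C.R // Fix D C q c} u) := fun _ => Fintype.ofFinite _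
  haveI : Fintype (orbitRel.Quotient U {c : S ⧸ C.R // Fix D C q c}) := Fintype.ofFinite _
  have h := sum_card_fixedBy_eq_card_orbits_mul_card_group U {c : S ⧸ C.R // Fix D C q c}
  have e : ∀ u : U, Nat.card {c : S ⧸ C.R // Fix D C q c ∧ (u : S) • c = c} =
      Fintype.card (fixedBy {c : S ⧸ C.R // Fix D C q c} u) := by
    intro u
    rw [← Nat.card_eq_fintype_card]
    exact Nat.card_congr
      { toFun := fun c => ⟨⟨c.1, c.2.1⟩, Subtype.ext c.2.2⟩
        invFun := fun c => ⟨c.1.1, c.1.2, congrArg Subtype.val c.2⟩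
        left_inv := fun _ => rfl
        right_inv := fun _ => rfl }
  simp only [e, h, Nat.card_eq_fintype_card]
  exact dvd_mul_left _ _

theorem ext'_of_mem (L : List (Piece F)) {q : Pair S A} {w : S} (hw : (w : Ω) ∈ q.P) :
    ext' D L q w = mark D L q :=
  congrArg List.sum (List.map_congr_left fun _ _ => Nat.card_congr
    (Equiv.subtypeEquivRight fun _ => ⟨fun h => h.1, fun h => ⟨h, (h w hw).1⟩⟩))

/-- The pairs on `P ⊔ ⟨w⟩` extending `q`. -/
def ExtPair (D : Data F A) (q : Pair S A) (w : S) (t : Pair S A) : Prop :=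
  IsVal D t ∧ t.P = q.P ⊔ Subgroup.zpowers (w : Ω) ∧
    ∀ x : S, (x : Ω) ∈ q.P → (x : Ω) ∈ D.K → t.μ x = q.μ x

theorem fix_iff_ext {q : Pair S A} (w : S) {c : S ⧸ C.R} :
    (Fix D C q c ∧ w • c = c) ↔ ∃ t, ExtPair D q w t ∧ Fix D C t c := by
  constructor
  · rintro ⟨h, hw⟩
    have hPS : q.P ⊔ Subgroup.zpowers (w : Ω) ≤ S := sup_le q.le (Subgroup.zpowers_le.mpr w.2)
    have hle : q.P ⊔ Subgroup.zpowers (w : Ω) ≤ (MulAction.stabilizer S c).map S.subtype :=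
      sup_le (fun x hx => ⟨⟨x, q.le hx⟩, (h ⟨x, q.le hx⟩ hx).1, rfl⟩)
        (Subgroup.zpowers_le.mpr ⟨w, hw, rfl⟩)
    have hfix : ∀ x : S, (x : Ω) ∈ q.P ⊔ Subgroup.zpowers (w : Ω) → x • c = c := fun x hx => by
      obtain ⟨y, hy, e⟩ := hle hx
      rw [← (Subtype.ext e : y = x)]
      exact hy
    refine ⟨valPair D C hPS c, ⟨isVal_valPair hPS hfix, rfl, fun x hx hxK => ?_⟩, valPair_fix hPS hfix⟩
    rw [← (h x hx).2 hxK]
    exact if_pos ⟨Subgroup.mem_sup_left hx, hxK⟩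
  · rintro ⟨t, ⟨-, htP, hext⟩, h⟩
    refine ⟨fun x hx => ?_, (h w (htP ▸ Subgroup.mem_sup_right (Subgroup.mem_zpowers _))).1⟩
    have hxt : (x : Ω) ∈ t.P := htP ▸ Subgroup.mem_sup_left hx
    exact ⟨(h x hxt).1, fun hxK => ((h x hxt).2 hxK).trans (hext x hx hxK)⟩

theorem ext'_eq_sum [Finite S] [Finite A] (L : List (Piece F)) (q : Pair S A) (w : S)
    [Fintype (Pair S A)] [DecidablePred (ExtPair D q w)] :
    ext' D L q w = ∑ t ∈ Finset.univ.filter (ExtPair D q w), mark D L t := by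
  simp only [ext', mark]
  rw [← Transfer.list_sum_finset]
  refine congrArg List.sum (List.map_congr_left fun C _ => ?_)
  rw [← card_fix_where (C := C) (sup_le q.le (Subgroup.zpowers_le.mpr w.2)) (ExtPair D q w)
    fun t ht => ⟨ht.1, ht.2.1⟩]
  exact Nat.card_congr (Equiv.subtypeEquivRight fun c => fix_iff_ext w)

end Cfsg.Lib.Fusion.RelTransfer
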