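import Cfsg.Agent.Fusion.RelTransfer.Marks

/-!
A list of pieces with stable marks, relative to a homomorphism on a strongly closed subgroup.
-/

set_option autoImplicit false

namespace Cfsg.Lib.Fusion.RelTransfer

open Cfsg Cfsg.FusionSystem

variable {Ω : Type*} [Group Ω] {S : Subgroup Ω} {F : FusionSystem S} {A : Type*} [CommGroup A]
  {D : Data F A} {p : ℕ}

/-- The values correspond along `f`. -/
def Along (D : Data F A) (f : Ω → Ω) (q r : Pair S A) : Prop :=
  ∀ x : S, (x : Ω) ∈ q.P → (x : Ω) ∈ D.K → ∀ h : f x ∈ S, r.μ ⟨f x, h⟩ = q.μ x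

/-- Conjugacy of pairs in the system. -/
def PRel (D : Data F A) (q r : Pair S A) : Prop :=
  ∃ f, IsMap F q.P f ∧ img q.P f = r.P ∧ Along D f q r

theorem mem_K_of_apply (D : Data F A) {P : Subgroup Ω} {f : Ω → Ω} (hf : IsMap F P f) {x : Ω}
    (hx : x ∈ P) (h : f x ∈ D.K) : x ∈ D.K := by
  obtain ⟨d, hd, -, hl, -⟩ := hf.exists_inv
  exact hl x hx ▸ D.closed hd _ (IsMap.apply_mem_img hx) h

theorem PRel.refl (q : Pair S A) : PRel D q q :=
  ⟨id, isMap_id q.le, img_id _, fun _ _ _ _ => rfl⟩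

theorem PRel.symm {q r : Pair S A} (h : PRel D q r) : PRel D r q := by
  obtain ⟨f, hf, hi, hμ⟩ := h
  obtain ⟨g, hg, hgi, hl, hr⟩ := hf.exists_inv
  rw [hi] at hg hgi hr
  refine ⟨g, hg, hgi, fun y hy hyK hS' => ?_⟩
  have h1 : g y ∈ q.P := hgi ▸ IsMap.apply_mem_img hy
  have h2 := hμ ⟨g y, hS'⟩ h1 (D.closed hg _ hy hyK) (by rw [hr y hy]; exact y.2)
  rw [← h2]
  exact congrArg r.μ (Subtype.ext (hr y hy))

theorem PRel.trans {q r t : Pair S A} (h : PRel D q r) (h' : PRel D r t) : PRel D q t := by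
  obtain ⟨f, hf, hi, hμ⟩ := h
  obtain ⟨g, hg, hgi, hν⟩ := h'
  rw [← hi] at hg hgi
  refine ⟨g ∘ f, hf.comp hg fun x hx => IsMap.apply_mem_img hx, (img_comp hf hg).trans hgi,
    fun x hx hxK hS' => ?_⟩
  have hfx : f x ∈ r.P := hi ▸ IsMap.apply_mem_img hx
  exact (hν ⟨f x, r.le hfx⟩ hfx (D.closed hf _ hx hxK) hS').trans (hμ x hx hxK (r.le hfx))

theorem PRel.card_eq {q r : Pair S A} (h : PRel D q r) : Nat.card r.P = Nat.card q.P := by
  obtain ⟨f, hf, hi, -⟩ := h
  rw [← hi]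
  exact hf.card_img

open Classical in
/-- The pair carried along a map. -/
noncomputable def push (D : Data F A) (t : Pair S A) (f : Ω → Ω) (hf : IsMap F t.P f) : Pair S A :=
  ⟨img t.P f, hf.img_le, fun y =>
    if h : ∃ x : S, (x : Ω) ∈ t.P ∧ (x : Ω) ∈ D.K ∧ f x = (y : Ω) then t.μ h.choose else 1⟩

theorem along_push {t : Pair S A} {f : Ω → Ω} (hf : IsMap F t.P f) : Along D f t (push D t f hf) := by
  classical
  intro x hx hxK h
  have hex : ∃ x' : S, (x' : Ω) ∈ t.P ∧ (x' : Ω) ∈ D.K ∧ f x' = f x := ⟨x, hx, hxK, rfl⟩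
  show (if _h : _ then _ else _) = _
  rw [dif_pos hex]
  exact congrArg t.μ (Subtype.ext (hf.injOn hex.choose_spec.1 hx hex.choose_spec.2.2))

theorem isVal_push {t : Pair S A} (ht : IsVal D t) {f : Ω → Ω} (hf : IsMap F t.P f) :
    IsVal D (push D t f hf) := by
  classical
  obtain ⟨⟨g, hg, hgμ⟩, -⟩ := ht
  obtain ⟨d, hd, hdi, hl, hr⟩ := hf.exists_inv
  refine ⟨⟨g ∘ d, hd.comp hg fun y hy => hdi.le (IsMap.apply_mem_img hy), fun y hy hyK => ?_⟩,
    fun y hy => ?_⟩
  · have h1 : d y ∈ t.P := hdi.le (IsMap.apply_mem_img hy)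
    have h2 := D.closed hd _ hy hyK
    have h3 := along_push (D := D) hf ⟨d y, t.le h1⟩ h1 h2 (by rw [hr y hy]; exact y.2)
    rw [hgμ _ h1 h2] at h3
    rw [show y = (⟨f (d y), by rw [hr y hy]; exact y.2⟩ : S) from Subtype.ext (hr y hy).symm, h3]
    show D.h (g (d y)) = D.h (g (d (f (d y))))
    rw [hr y hy]
  · show (if _h : _ then _ else _) = _
    rw [dif_neg]
    rintro ⟨x, hx, hxK, e⟩
    exact hy ⟨show (y : Ω) ∈ img t.P f from e ▸ IsMap.apply_mem_img hx, e ▸ D.closed hf _ hx hxK⟩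

theorem eq_of_along {q r r' : Pair S A} {f : Ω → Ω} (hf : IsMap F q.P f) (hr : IsVal D r)
    (hr' : IsVal D r') (hi : img q.P f = r.P) (hi' : img q.P f = r'.P) (h : Along D f q r)
    (h' : Along D f q r') : r = r' := by
  refine pair_ext (hi ▸ hi') (funext fun y => ?_)
  by_cases hy : (y : Ω) ∈ r.P ∧ (y : Ω) ∈ D.K
  · obtain ⟨x, hx, e⟩ := hf.mem_img.mp (hi.ge hy.1)
    have hxK := mem_K_of_apply D hf hx (e ▸ hy.2)
    rw [show y = (⟨f x, e ▸ y.2⟩ : S) from Subtype.ext e.symm, h ⟨x, q.le hx⟩ hx hxK,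
      h' ⟨x, q.le hx⟩ hx hxK]
  · rw [hr.2 y hy, hr'.2 y fun h'' => hy ⟨hi.le (hi'.ge h''.1), h''.2⟩]

/-- The marks are constant on classes of pairs of order at least `n`. -/
def StableFrom (D : Data F A) (L : List (Piece F)) (n : ℕ) : Prop :=
  ∀ q r : Pair S A, IsVal D q → IsVal D r → n ≤ Nat.card q.P → PRel D q r → mark D L q = mark D L r

/-- Sums of marks over corresponding sets of pairs agree. -/
theorem sum_marks_map [Finite S] [Finite A] {L : List (Piece F)} {n : ℕ} (hL : StableFrom D L n)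
    {K₁ K₂ : Subgroup Ω} {f : Ω → Ω} (hf : IsMap F K₁ f) (hi : img K₁ f = K₂)
    (hn : n ≤ Nat.card K₁) (Q Q' : Pair S A → Prop) [DecidablePred Q] [DecidablePred Q']
    [Fintype (Pair S A)] (hQ : ∀ t, Q t → IsVal D t ∧ t.P = K₁) (hQ' : ∀ t, Q' t → IsVal D t ∧ t.P = K₂)
    (hiff : ∀ t t', IsVal D t → IsVal D t' → t.P = K₁ → t'.P = K₂ → Along D f t t' → (Q t ↔ Q' t')) :
    ∑ t ∈ Finset.univ.filter Q, mark D L t = ∑ t ∈ Finset.univ.filter Q', mark D L t := by
  obtain ⟨d, hd, hdi, hl, hr⟩ := hf.exists_inv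
  rw [hi] at hd hdi hr
  have hfm : ∀ t, Q t → IsMap F t.P f := fun t ht => (hQ t ht).2.symm ▸ hf
  have hdm : ∀ t, Q' t → IsMap F t.P d := fun t ht => (hQ' t ht).2.symm ▸ hd
  have himg : ∀ t (ht : Q t), (push D t f (hfm t ht)).P = K₂ := fun t ht => by
    show img t.P f = K₂
    rw [(hQ t ht).2, hi]
  have himg' : ∀ t (ht : Q' t), (push D t d (hdm t ht)).P = K₁ := fun t ht => by
    show img t.P d = K₁
    rw [(hQ' t ht).2, hdi]
  -- a map along `f` gives one along `d`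
  have hback : ∀ t t' : Pair S A, t.P = K₁ → t'.P = K₂ → Along D f t t' → Along D d t' t := by
    intro t t' h1 h2 ha y hy hyK hS'
    rw [h2] at hy
    have h3 : d y ∈ t.P := h1 ▸ hdi.le (IsMap.apply_mem_img hy)
    rw [← ha ⟨d y, hS'⟩ h3 (D.closed hd _ hy hyK) (by rw [hr y hy]; exact y.2)]
    exact congrArg t'.μ (Subtype.ext (hr y hy))
  have hforth : ∀ t t' : Pair S A, t.P = K₁ → t'.P = K₂ → Along D d t' t → Along D f t t' := by
    intro t t' h1 h2 ha x hx hxK hS'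
    rw [h1] at hx
    have h3 : f x ∈ t'.P := h2 ▸ hi.le (IsMap.apply_mem_img hx)
    rw [← ha ⟨f x, hS'⟩ h3 (D.closed hf _ hx hxK) (by rw [hl x hx]; exact x.2)]
    exact congrArg t.μ (Subtype.ext (hl x hx))
  have hQpush : ∀ t (ht : Q t), Q' (push D t f (hfm t ht)) := fun t ht =>
    (hiff t _ (hQ t ht).1 (isVal_push (hQ t ht).1 _) (hQ t ht).2 (himg t ht) (along_push _)).mp ht
  have hQpush' : ∀ t (ht : Q' t), Q (push D t d (hdm t ht)) := fun t ht =>
    (hiff _ t (isVal_push (hQ' t ht).1 _) (hQ' t ht).1 (himg' t ht) (hQ' t ht).2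
      (hforth _ t (himg' t ht) (hQ' t ht).2 (along_push _))).mpr ht
  refine Finset.sum_bij' (fun t ht => push D t f (hfm t (Finset.mem_filter.mp ht).2))
    (fun t ht => push D t d (hdm t (Finset.mem_filter.mp ht).2))
    (fun t ht => Finset.mem_filter.mpr ⟨Finset.mem_univ _, hQpush t (Finset.mem_filter.mp ht).2⟩)
    (fun t ht => Finset.mem_filter.mpr ⟨Finset.mem_univ _, hQpush' t (Finset.mem_filter.mp ht).2⟩)
    (fun t ht => ?_) (fun t ht => ?_) fun t ht => ?_
  · obtain ⟨-, ht⟩ := Finset.mem_filter.mp ht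
    have hv := isVal_push (hQ t ht).1 (hfm t ht)
    refine eq_of_along (q := push D t f (hfm t ht)) (hdm _ (hQpush t ht))
      (isVal_push hv (hdm _ (hQpush t ht))) (hQ t ht).1 rfl ?_ (along_push _)
      (hback t _ (hQ t ht).2 (himg t ht) (along_push _))
    rw [himg t ht, hdi, (hQ t ht).2]
  · obtain ⟨-, ht⟩ := Finset.mem_filter.mp ht
    have hv := isVal_push (hQ' t ht).1 (hdm t ht)
    refine eq_of_along (q := push D t d (hdm t ht)) (hfm _ (hQpush' t ht))
      (isVal_push hv (hfm _ (hQpush' t ht))) (hQ' t ht).1 rfl ?_ (along_push _)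
      (hforth _ t (himg' t ht) (hQ' t ht).2 (along_push _))
    rw [himg' t ht, hi, (hQ' t ht).2]
  · obtain ⟨-, ht⟩ := Finset.mem_filter.mp ht
    exact hL t _ (hQ t ht).1 (isVal_push (hQ t ht).1 _) ((hQ t ht).2.symm ▸ hn)
      ⟨f, hfm t ht, rfl, along_push _⟩

theorem card_subgroupOf (q : Pair S A) : Nat.card (q.P.subgroupOf S) = Nat.card q.P :=
  Nat.card_congr (Subgroup.subgroupOfEquivOfLe q.le).toEquiv

/-- The index of the subgroup of a pair in its stabiliser. -/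
noncomputable def wd (D : Data F A) (q : Pair S A) : ℕ := (q.P.subgroupOf S).relIndex (pairStab D q)

theorem card_pairStab {q : Pair S A} (hq : IsVal D q) :
    Nat.card (pairStab D q) = wd D q * Nat.card q.P := by
  rw [wd, ← card_subgroupOf, ← Subgroup.relIndex_bot_left, ← Subgroup.relIndex_bot_left, mul_comm,
    Subgroup.relIndex_mul_relIndex _ _ _ bot_le (subgroupOf_le_pairStab hq)]

/-- If the stabiliser of `q` maps into that of `r` over a conjugation, the marks are congruent. -/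
theorem wd_dvd_sub [Finite S] [Finite A] {L : List (Piece F)} {n : ℕ} (hL : StableFrom D L n)
    {q r : Pair S A} (hq : IsVal D q) (hn : n ≤ Nat.card q.P + 1) {T : Subgroup Ω}
    {g : Ω → Ω} (hg : IsMap F T g) (hPT : q.P ≤ T) (hi : img q.P g = r.P) (hμ : Along D g q r)
    (hWT : ∀ w ∈ pairStab D q, (w : Ω) ∈ T)
    (hWr : ∀ w ∈ pairStab D q, ∀ h : g (w : Ω) ∈ S, (⟨g w, h⟩ : S) ∈ pairStab D r) :
    (wd D q : ℤ) ∣ (mark D L q : ℤ) - mark D L r := by
  classical
  haveI := finite_of_le q.le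
  haveI := finite_of_le r.le
  haveI : Fintype (Pair S A) := Fintype.ofFinite _
  haveI : Fintype (pairStab D q) := Fintype.ofFinite _
  let φ : pairStab D q →* S := MonoidHom.mk' (fun w => ⟨g (w : S), hg.mem_S (hWT w.1 w.2)⟩)
    fun a b => Subtype.ext (hg.map_mul (hWT a.1 a.2) (hWT b.1 b.2))
  have hφ : Function.Injective φ := fun a b h => Subtype.ext (Subtype.ext
    (hg.injOn (hWT a.1 a.2) (hWT b.1 b.2) (congrArg (fun t : S => (t : Ω)) h)))
  haveI : Fintype φ.range := Fintype.ofFinite _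
  have hU : φ.range ≤ pairStab D r := by
    rintro _ ⟨w, rfl⟩
    exact hWr w.1 w.2 _
  have hmem : ∀ w : pairStab D q, ((w : S) : Ω) ∈ q.P ↔ (φ w : Ω) ∈ r.P := fun w => by
    rw [← hi, (hg.mono hPT).mem_img]
    exact ⟨fun h => ⟨_, h, rfl⟩, fun ⟨x, hx, e⟩ => hg.injOn (hPT hx) (hWT w.1 w.2) e ▸ hx⟩
  have hcardU : Nat.card φ.range = Nat.card (pairStab D q) :=
    (Nat.card_congr (MonoidHom.ofInjective hφ).toEquiv).symm
  have hsum : ∑ u : φ.range, ext' D L r (u : S) = ∑ w : pairStab D q, ext' D L r (φ w) :=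
    (Equiv.sum_comp (MonoidHom.ofInjective hφ).toEquiv (fun u : φ.range => ext' D L r (u : S))).symm
  have d1 := dvd_sum_ext' (D := D) L q (le_refl (pairStab D q))
  have d2 := dvd_sum_ext' (D := D) L r hU
  rw [hcardU, hsum] at d2
  have hout : ∀ w : pairStab D q, ((w : S) : Ω) ∉ q.P → ext' D L q (w : S) = ext' D L r (φ w) := by
    intro w hw
    have hK : q.P ⊔ Subgroup.zpowers ((w : S) : Ω) ≤ T :=
      sup_le hPT (Subgroup.zpowers_le.mpr (hWT w.1 w.2))
    have hiK : img (q.P ⊔ Subgroup.zpowers ((w : S) : Ω)) g = r.P ⊔ Subgroup.zpowers (φ w : Ω) := by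
      rw [(hg.mono hK).img_sup, hi]
      congr 1
      refine le_antisymm (IsMap.img_le_iff.mpr fun y hy => ?_)
        (Subgroup.zpowers_le.mpr (IsMap.apply_mem_img (Subgroup.mem_zpowers _)))
      obtain ⟨i, rfl⟩ := Subgroup.mem_zpowers_iff.mp hy
      obtain ⟨ψ, -, e⟩ := hg
      refine Subgroup.mem_zpowers_iff.mpr ⟨i, ?_⟩
      have h1 := map_zpow ψ ⟨((w : S) : Ω), hWT w.1 w.2⟩ i
      rw [e, e] at h1
      exact h1.symm
    rw [ext'_eq_sum, ext'_eq_sum]
    refine sum_marks_map hL (hg.mono hK) hiK ?_ _ _ (fun t ht => ⟨ht.1, ht.2.1⟩)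
      (fun t ht => ⟨ht.1, ht.2.1⟩) ?_
    · have hlt : q.P < q.P ⊔ Subgroup.zpowers ((w : S) : Ω) :=
        lt_of_le_of_ne le_sup_left fun e => hw (e ▸ Subgroup.mem_sup_right (Subgroup.mem_zpowers _))
      haveI := finite_of_le (hK.trans hg.le)
      have : Nat.card q.P < Nat.card (q.P ⊔ Subgroup.zpowers ((w : S) : Ω) : Subgroup Ω) :=
        lt_of_not_ge fun h => hlt.ne (Subgroup.eq_of_le_of_card_ge le_sup_left h)
      omega
    · intro t t' ht ht' htP ht'P ha
      have hx' : ∀ x : S, (x : Ω) ∈ q.P → (x : Ω) ∈ t.P := fun x hx => htP ▸ Subgroup.mem_sup_left hx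
      constructor
      · rintro ⟨-, -, hext⟩
        refine ⟨ht', ht'P, fun y hy hyK => ?_⟩
        obtain ⟨x, hx, e⟩ := (hg.mono hPT).mem_img.mp (hi.ge hy)
        have hxK := mem_K_of_apply D hg (hPT hx) (e ▸ hyK)
        rw [show y = (⟨g x, e ▸ y.2⟩ : S) from Subtype.ext e.symm,
          ha ⟨x, q.le hx⟩ (hx' ⟨x, q.le hx⟩ hx) hxK, hext ⟨x, q.le hx⟩ hx hxK,
          hμ ⟨x, q.le hx⟩ hx hxK]
      · rintro ⟨-, -, hext⟩
        refine ⟨ht, htP, fun x hx hxK => ?_⟩
        have hgx : g x ∈ r.P := hi ▸ IsMap.apply_mem_img hx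
        rw [← ha x (hx' x hx) hxK (r.le hgx), hext _ hgx (D.closed hg _ (hPT hx) hxK),
          hμ x hx hxK (r.le hgx)]
  set B := (Finset.univ : Finset (pairStab D q)).filter
    (fun w : pairStab D q => ((w : S) : Ω) ∈ q.P) with hB
  have hBc : B.card = Nat.card q.P := by
    rw [hB, ← Fintype.card_subtype, ← Nat.card_eq_fintype_card]
    exact Nat.card_congr
      { toFun := fun w => ⟨_, w.2⟩
        invFun := fun x => ⟨⟨⟨x, q.le x.2⟩, subgroupOf_le_pairStab hq x.2⟩, x.2⟩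
        left_inv := fun _ => rfl
        right_inv := fun _ => rfl }
  have s1 : ∑ w : pairStab D q, ext' D L q (w : S) = Nat.card q.P * mark D L q +
      ∑ w ∈ Finset.univ.filter (fun w : pairStab D q => ((w : S) : Ω) ∉ q.P), ext' D L q (w : S) := by
    rw [← Finset.sum_filter_add_sum_filter_not Finset.univ (fun w : pairStab D q => ((w : S) : Ω) ∈ q.P),
      ← hBc, Finset.sum_congr (s₂ := B) rfl fun w hw => ext'_of_mem L (Finset.mem_filter.mp hw).2,
      Finset.sum_const, smul_eq_mul]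
  have s2 : ∑ w : pairStab D q, ext' D L r (φ w) = Nat.card q.P * mark D L r +
      ∑ w ∈ Finset.univ.filter (fun w : pairStab D q => ((w : S) : Ω) ∉ q.P), ext' D L q (w : S) := by
    rw [← Finset.sum_filter_add_sum_filter_not Finset.univ (fun w : pairStab D q => ((w : S) : Ω) ∈ q.P),
      ← hBc, Finset.sum_congr (s₂ := B) rfl fun w hw =>
        ext'_of_mem L ((hmem w).mp (Finset.mem_filter.mp hw).2),
      Finset.sum_const, smul_eq_mul]
    congr 1
    exact Finset.sum_congr rfl fun w hw => (hout w (Finset.mem_filter.mp hw).2).symm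
  have d := dvd_sub (Int.natCast_dvd_natCast.mpr d1) (Int.natCast_dvd_natCast.mpr d2)
  rw [s1, s2, card_pairStab hq] at d
  push_cast at d
  have hpos : (Nat.card q.P : ℤ) ≠ 0 := Int.natCast_ne_zero.mpr Nat.card_pos.ne'
  refine (mul_dvd_mul_iff_left hpos).mp ?_
  rw [mul_comm]
  convert d using 1
  ring

/-! ### Representatives -/

/-- The automorphisms in the system fixing the values. -/
def muStab (D : Data F A) (q : Pair S A) : Subgroup (MulAut q.P) where
  carrier := {α | α ∈ F.autGroup q.P ∧ ∀ x : q.P, (x : Ω) ∈ D.K →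
    q.μ (Subgroup.inclusion q.le (α x)) = q.μ (Subgroup.inclusion q.le x)}
  one_mem' := ⟨Subgroup.one_mem _, fun _ _ => rfl⟩
  mul_mem' := fun {a b} ha hb => ⟨Subgroup.mul_mem _ ha.1 hb.1, fun x hx => by
    have hbx : ((b x : q.P) : Ω) ∈ D.K := by
      rw [← autFun_apply]
      exact D.closed ((isMap_autFun q.le).mpr hb.1) _ x.2 hx
    exact (ha.2 (b x) hbx).trans (hb.2 x hx)⟩
  inv_mem' := fun {a} ha => ⟨Subgroup.inv_mem _ ha.1, fun x hx => by
    have hax : ((a⁻¹ x : q.P) : Ω) ∈ D.K := by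
      rw [← autFun_apply]
      exact D.closed ((isMap_autFun q.le).mpr (Subgroup.inv_mem _ ha.1)) _ x.2 hx
    rw [← ha.2 _ hax, MulAut.apply_inv_self]⟩

/-- A representative able to receive the stabilisers of all its conjugates. -/
def IsRep (D : Data F A) (p : ℕ) (r : Pair S A) : Prop :=
  F.IsFullyNormalized r.P ∧ ∀ X : Subgroup (MulAut r.P), IsPGroup p X → X ≤ muStab D r →
    ∃ χ ∈ muStab D r, ∀ β ∈ X, χ * β * χ⁻¹ ∈ autInducedBy S r.P

theorem exists_rep_aux [Finite S] [Fact p.Prime] (hS : IsPGroup p S) (hF : F.IsSaturated p)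
    {Q : Subgroup Ω} (hQn : F.IsFullyNormalized Q) (hQle : Q ≤ S) (ν : S → A)
    (hv : IsVal D (⟨Q, hQle, ν⟩ : Pair S A)) :
    ∃ r, IsVal D r ∧ PRel D ⟨Q, hQle, ν⟩ r ∧ IsRep D p r := by
  set r₁ : Pair S A := ⟨Q, hQle, ν⟩ with hr₁
  haveI : Finite Q := finite_of_le hQle
  have hfa := (fullyNormalized_props hS hF hQn).2.1
  obtain ⟨R⟩ : Nonempty (Sylow p (muStab D r₁)) := inferInstance
  have hR : IsPGroup p ((R : Subgroup (muStab D r₁)).map (muStab D r₁).subtype) := R.2.map _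
  have hRle : (R : Subgroup (muStab D r₁)).map (muStab D r₁).subtype ≤ F.autGroup Q := by
    rintro _ ⟨a, -, rfl⟩
    exact a.2.1
  obtain ⟨χ, hχ, hχR⟩ := exists_conj_into_autS hfa hR hRle
  have hχm : IsMap F Q (autFun χ) := (isMap_autFun hQle).mpr hχ
  set r : Pair S A := ⟨Q, hQle, (push D r₁ (autFun χ) hχm).μ⟩ with hr
  have hrp : push D r₁ (autFun χ) hχm = r := pair_ext (img_autFun χ) rfl
  have hal : Along D (autFun χ) r₁ r := hrp ▸ along_push hχm
  -- values of `r` at the images of `χ`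
  have hval : ∀ (u : Q), (u : Ω) ∈ D.K →
      r.μ (Subgroup.inclusion hQle (χ u)) = r₁.μ (Subgroup.inclusion hQle u) := fun u hu => by
    have hS' : autFun χ u ∈ S := hχm.mem_S u.2
    rw [← hal (Subgroup.inclusion hQle u) u.2 hu hS']
    exact congrArg r.μ (Subtype.ext (autFun_apply χ u).symm)
  have hK : ∀ {δ : MulAut Q}, δ ∈ F.autGroup Q → ∀ u : Q, (u : Ω) ∈ D.K →
      ((δ u : Q) : Ω) ∈ D.K := fun hδ u hu => by
    rw [← autFun_apply]
    exact D.closed ((isMap_autFun hQle).mpr hδ) _ u.2 hu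
  refine ⟨r, hrp ▸ isVal_push hv hχm, ⟨autFun χ, hχm, img_autFun χ, hal⟩, hQn, ?_⟩
  show ∀ X : Subgroup (MulAut Q), IsPGroup p X → X ≤ muStab D r →
    ∃ χ' ∈ muStab D r, ∀ β ∈ X, χ' * β * χ'⁻¹ ∈ autInducedBy S Q
  intro X hX hXle
  have hsub : ∀ β ∈ muStab D r, χ⁻¹ * β * χ ∈ muStab D r₁ := fun β hβ =>
    ⟨Subgroup.mul_mem _ (Subgroup.mul_mem _ (Subgroup.inv_mem _ hχ) hβ.1) hχ, fun x hx => by
      have h1 := hβ.2 (χ x) (hK hχ x hx)
      rw [← hval x hx, ← hval _ (hK (Subgroup.mul_mem _ (Subgroup.mul_mem _ (Subgroup.inv_mem _ hχ)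
        hβ.1) hχ) x hx)]
      refine (congrArg r.μ (congrArg (Subgroup.inclusion hQle) ?_)).trans h1
      show χ ((χ⁻¹ : MulAut Q) (β (χ x))) = β (χ x)
      exact MulAut.apply_inv_self _ _ _⟩
  let c₀ : X →* muStab D r₁ := MonoidHom.mk' (fun β => ⟨χ⁻¹ * β.1 * χ, hsub _ (hXle β.2)⟩)
    fun a b => Subtype.ext (by show χ⁻¹ * ((a : MulAut Q) * b) * χ = _; simp [mul_assoc])
  obtain ⟨c, hc⟩ := Transfer.exists_conj_into_sylow R (X := c₀.range)
    (hX.of_surjective _ c₀.rangeRestrict_surjective)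
  refine ⟨χ * c * χ⁻¹, ⟨Subgroup.mul_mem _ (Subgroup.mul_mem _ hχ c.2.1) (Subgroup.inv_mem _ hχ),
    fun x hx => ?_⟩, fun β hβ => ?_⟩
  · have hy := hK (Subgroup.inv_mem _ hχ) x hx
    show r.μ (Subgroup.inclusion hQle (χ ((c : MulAut Q) ((χ⁻¹ : MulAut Q) x)))) = _
    rw [hval _ (hK c.2.1 _ hy), c.2.2 _ hy, ← hval _ hy, MulAut.apply_inv_self]
  · have h := hχR _ ⟨_, hc _ ⟨⟨β, hβ⟩, rfl⟩, rfl⟩
    have e : χ * (c : MulAut Q) * χ⁻¹ * β * (χ * (c : MulAut Q) * χ⁻¹)⁻¹ =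
        χ * ((c : MulAut Q) * (χ⁻¹ * β * χ) * (c : MulAut Q)⁻¹) * χ⁻¹ := by group
    rw [e]
    exact h

theorem exists_rep [Finite S] [Fact p.Prime] (hS : IsPGroup p S) (hF : F.IsSaturated p)
    {q : Pair S A} (hq : IsVal D q) : ∃ r, IsVal D r ∧ PRel D q r ∧ IsRep D p r := by
  obtain ⟨Q, hPQ, hQ⟩ := exists_fullyNormalized (F := F) q.le
  obtain ⟨f, hf, hi⟩ := isConj_iff.mp hPQ
  subst hi
  obtain ⟨r, hr, hrel, hrep⟩ := exists_rep_aux hS hF hQ hf.img_le (push D q f hf).μ (isVal_push hq hf)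
  exact ⟨r, hr, PRel.trans ⟨f, hf, rfl, along_push hf⟩ hrel, hrep⟩

/-- The congruence between a pair and a receiving representative. -/
theorem wd_dvd_sub_rep [Finite S] [Finite A] [Fact p.Prime] (hS : IsPGroup p S)
    (hF : F.IsSaturated p) {L : List (Piece F)} {n : ℕ} (hL : StableFrom D L n)
    {q r : Pair S A} (hq : IsVal D q) (hn : n ≤ Nat.card q.P + 1) (hqr : PRel D q r)
    (hr : IsRep D p r) : (wd D q : ℤ) ∣ (mark D L q : ℤ) - mark D L r := by
  obtain ⟨f₀, hf₀, hi, hμ⟩ := hqr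
  have hiff : ∀ (u : pairStab D q) (x : Ω), x ∈ q.P ↔ ((u : S) : Ω) * x * ((u : S) : Ω)⁻¹ ∈ q.P := by
    intro u x
    refine ⟨fun hx => (u.2.1 ⟨x, q.le hx⟩).mp hx, fun hx => ?_⟩
    have hxS : x ∈ S := by
      have h := S.mul_mem (S.mul_mem (S.inv_mem (u : S).2) (q.le hx)) (u : S).2
      convert h using 1
      group
    exact (u.2.1 ⟨x, hxS⟩).mpr hx
  have hnorm : ∀ u : pairStab D q, ((u : S) : Ω) ∈ Subgroup.normalizer (q.P : Set Ω) := fun u =>
    Subgroup.mem_normalizer_iff.mpr (hiff u)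
  let ψ : pairStab D q →* MulAut r.P := MonoidHom.mk'
    (fun u => MulAut.congr (hf₀.equiv hi) (conjAut q.P _ (hnorm u)))
    fun a b => by
      rw [← map_mul]
      exact congrArg _ (map_mul q.P.normalizerMonoidHom ⟨_, hnorm a⟩ ⟨_, hnorm b⟩)
  have hψ : ψ.range ≤ muStab D r := by
    rintro _ ⟨u, rfl⟩
    refine ⟨congr_mem_autGroup hf₀ hi (autInducedBy_le hf₀.le
      (conjAut_mem_autInducedBy (hnorm u) (u : S).2)), fun y hyK => ?_⟩
    obtain ⟨x, hx, hxy⟩ := hf₀.mem_img.mp (hi.symm ▸ y.2 : (y : Ω) ∈ img q.P f₀)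
    have hxK := mem_K_of_apply D hf₀ hx (hxy ▸ hyK)
    have hx' : ((u : S) : Ω) * x * ((u : S) : Ω)⁻¹ ∈ q.P := (hiff u x).mp hx
    have e : ((ψ u y : r.P) : Ω) = f₀ (((u : S) : Ω) * x * ((u : S) : Ω)⁻¹) := by
      rw [← autFun_apply, ← hxy]
      show autFun (MulAut.congr (hf₀.equiv hi) (conjAut q.P _ (hnorm u))) (f₀ x) = _
      rw [congr_equiv_spec hf₀ hi _ hx, autFun_apply_mem _ hx]
      rfl
    have h1 := hμ ((u : S) * ⟨x, q.le hx⟩ * (u : S)⁻¹) hx' (D.conj_mem (u : S).2 hxK)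
      (hf₀.mem_S hx')
    rw [u.2.2 ⟨x, q.le hx⟩ hx hxK] at h1
    rw [show Subgroup.inclusion r.le (ψ u y) =
        (⟨f₀ (((u : S) : Ω) * x * ((u : S) : Ω)⁻¹), hf₀.mem_S hx'⟩ : S) from Subtype.ext e]
    refine h1.trans ?_
    rw [← hμ ⟨x, q.le hx⟩ hx hxK (hf₀.mem_S hx)]
    exact congrArg r.μ (Subtype.ext hxy)
  obtain ⟨χ, hχ, hχK⟩ := hr.2 ψ.range
    ((hS.of_injective _ (pairStab D q).subtype_injective).of_surjective _ ψ.rangeRestrict_surjective) hψ
  have hmem : ∀ x ∈ q.P, f₀ x ∈ r.P := fun x hx => hi ▸ IsMap.apply_mem_img hx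
  let f₁ := autFun χ ∘ f₀
  have hf₁ : IsMap F q.P f₁ := hf₀.comp ((isMap_autFun r.le).mpr hχ.1) hmem
  have hi₁ : img q.P f₁ = r.P := by
    have this : IsMap F (img q.P f₀) (autFun χ) := ((isMap_autFun r.le).mpr hχ.1).mono hi.le
    show img q.P (autFun χ ∘ f₀) = _
    rw [img_comp hf₀ this, hi, img_autFun]
  have hμ₁ : Along D f₁ q r := by
    intro x hx hxK hS'
    have h1 := hχ.2 ⟨f₀ x, hmem x hx⟩ (D.closed hf₀ _ hx hxK)
    refine (congrArg r.μ (Subtype.ext ?_)).trans (h1.trans (hμ x hx hxK _))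
    exact autFun_apply_mem χ (hmem x hx)
  have hWext : ∀ u ∈ pairStab D q, (u : Ω) ∈ extSub S q.P f₁ := by
    intro u hu
    obtain ⟨h, hh, eh⟩ := mem_autInducedBy.mp (hχK (ψ ⟨u, hu⟩) ⟨⟨u, hu⟩, rfl⟩)
    refine mem_extSub.mpr ⟨u.2, hnorm ⟨u, hu⟩, h, hh, fun x hx => ?_⟩
    show autFun χ (f₀ ((u : Ω) * x * (u : Ω)⁻¹)) = h * autFun χ (f₀ x) * h⁻¹
    have hcg : f₀ ((u : Ω) * x * (u : Ω)⁻¹) = autFun (ψ ⟨u, hu⟩) (f₀ x) := by
      show _ = autFun (MulAut.congr (hf₀.equiv hi) (conjAut q.P _ (hnorm ⟨u, hu⟩))) (f₀ x)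
      rw [congr_equiv_spec hf₀ hi _ hx, autFun_apply_mem _ hx]
      rfl
    have := eh ⟨autFun χ (f₀ x), autFun_mem χ (hmem x hx)⟩
    rw [hcg, ← this, ← autFun_mul χ _ (hmem x hx)]
    rw [← autFun_apply (χ * ψ ⟨u, hu⟩ * χ⁻¹) ⟨_, autFun_mem χ (hmem x hx)⟩]
    rw [← autFun_mul _ χ (hmem x hx), inv_mul_cancel_right]
  obtain ⟨g, hg, hag⟩ := receptive_extend (fullyNormalized_props hS hF hr.1).2.2 hf₁ hi₁
  have hgi : img q.P g = r.P := (img_congr hag).trans hi₁
  have hμg : Along D g q r := fun x hx hxK hS' => by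
    rw [show (⟨g x, hS'⟩ : S) = ⟨f₁ x, hag x hx ▸ hS'⟩ from Subtype.ext (hag x hx)]
    exact hμ₁ x hx hxK _
  refine wd_dvd_sub hL hq hn hg (le_extSub hf₁) hgi hμg hWext fun w hw h => ?_
  have hn' := hg.mem_normalizerIn (le_extSub hf₁) (hWext w hw) (hnorm ⟨w, hw⟩)
  rw [hgi] at hn'
  refine ⟨fun x => Subgroup.mem_normalizer_iff.mp hn'.2 (x : Ω), fun y hy hyK => ?_⟩
  obtain ⟨x, hx, hxy⟩ := (hg.mono (le_extSub hf₁)).mem_img.mp (hgi.ge hy)
  have hxK := mem_K_of_apply D hg (le_extSub hf₁ hx) (hxy ▸ hyK)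
  have hx2 : (w : Ω) * x * (w : Ω)⁻¹ ∈ q.P := (hiff ⟨w, hw⟩ x).mp hx
  have e : g ((w : Ω) * x * (w : Ω)⁻¹) = g w * y * (g w)⁻¹ := by
    rw [hg.map_conj (hWext w hw) (le_extSub hf₁ hx), hxy]
  have h3 := hμg (w * ⟨x, q.le hx⟩ * w⁻¹) hx2 (D.conj_mem w.2 hxK) (hg.mem_S (le_extSub hf₁ hx2))
  rw [hw.2 ⟨x, q.le hx⟩ hx hxK] at h3
  refine (congrArg r.μ (Subtype.ext e.symm)).trans (h3.trans ?_)
  rw [← hμg ⟨x, q.le hx⟩ hx hxK (hg.mem_S (le_extSub hf₁ hx))]
  exact congrArg r.μ (Subtype.ext hxy)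

/-! ### The pieces to add -/

/-- A map of the system giving the values of a pair. -/
noncomputable def liftMap {t : Pair S A} (ht : IsVal D t) : Ω → Ω := ht.1.choose

/-- The piece of a pair. -/
noncomputable def piece {t : Pair S A} (ht : IsVal D t) : Piece F :=
  ⟨t.P.subgroupOf S, liftMap ht,
    ht.1.choose_spec.1.mono (Subgroup.map_subgroupOf_eq_of_le t.le).le⟩

theorem fix_piece {t : Pair S A} (ht : IsVal D t) {q : Pair S A} (s : S) :
    Fix D (piece ht) q (QuotientGroup.mk s) ↔ ∀ x : S, (x : Ω) ∈ q.P →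
      ((s⁻¹ * x * s : S) : Ω) ∈ t.P ∧ ((x : Ω) ∈ D.K → t.μ (s⁻¹ * x * s) = q.μ x) := by
  refine forall_congr' fun x => imp_congr_right fun _ => ?_
  constructor
  · rintro ⟨h1, h2⟩
    have h1' := smul_mk_eq_iff.mp h1
    refine ⟨h1', fun hxK => ?_⟩
    rw [← h2 hxK, cval_eq h1' hxK, ht.1.choose_spec.2 (s⁻¹ * x * s) h1' (conj_mem_K hxK s)]
    rfl
  · rintro ⟨h1, h2⟩
    have h1' : s⁻¹ * x * s ∈ (piece ht).R := h1
    refine ⟨smul_mk_eq_iff.mpr h1', fun hxK => ?_⟩
    rw [cval_eq h1' hxK, ← h2 hxK, ht.1.choose_spec.2 (s⁻¹ * x * s) h1 (conj_mem_K hxK s)]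
    rfl

theorem SRel.refl (q : Pair S A) : SRel D q q := ⟨1, fun x => by simp, fun x _ _ => by simp⟩

theorem SRel.symm {q r : Pair S A} (hqr : SRel D q r) : SRel D r q := by
  obtain ⟨u, h, hμ⟩ := hqr
  have e : ∀ x : S, u * (u⁻¹ * x * u⁻¹⁻¹) * u⁻¹ = x := fun x => by group
  have h' : ∀ x : S, (x : Ω) ∈ r.P ↔ ((u⁻¹ * x * u⁻¹⁻¹ : S) : Ω) ∈ q.P := fun x => by
    rw [h, e]
  refine ⟨u⁻¹, h', fun x hx hxK => ?_⟩
  have := hμ _ ((h' x).mp hx) (D.conj_mem (u⁻¹ : S).2 hxK)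
  rw [e] at this
  exact this.symm

theorem SRel.trans {q r t : Pair S A} (hqr : SRel D q r) (hrt : SRel D r t) : SRel D q t := by
  obtain ⟨u, h, hμ⟩ := hqr
  obtain ⟨v, h', hν⟩ := hrt
  have e : ∀ x : S, v * u * x * (v * u)⁻¹ = v * (u * x * u⁻¹) * v⁻¹ := fun x => by group
  exact ⟨v * u, fun x => by rw [e]; exact (h x).trans (h' _), fun x hx hxK => by
    rw [e, hν _ ((h x).mp hx) (D.conj_mem u.2 hxK), hμ x hx hxK]⟩

theorem SRel.pRel {q r : Pair S A} (h : SRel D q r) : PRel D q r := by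
  obtain ⟨u, h, hμ⟩ := h
  refine ⟨_, isMap_conj q.le u.2, ?_, fun x hx hxK _ => hμ x hx hxK⟩
  refine le_antisymm (IsMap.img_le_iff.mpr fun x hx => (h ⟨x, q.le hx⟩).mp hx) fun y hy => ?_
  have hy' : ((u⁻¹ * ⟨y, r.le hy⟩ * u : S) : Ω) ∈ q.P := (h _).mpr (by simpa [mul_assoc] using hy)
  convert IsMap.apply_mem_img (f := fun x => (u : Ω) * x * (u : Ω)⁻¹) hy' using 1
  simp [mul_assoc]

theorem mk'_piece_self [Finite S] {t : Pair S A} (ht : IsVal D t) :
    mk' D (piece ht) t = wd D t := by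
  haveI := finite_of_le t.le
  have e : ((QuotientGroup.mk : S → S ⧸ (piece ht).R) ⁻¹' {c | Fix D (piece ht) t c}) = pairStab D t := by
    ext s
    show Fix D (piece ht) t (QuotientGroup.mk s) ↔ s ∈ pairStab D t
    rw [fix_piece ht]
    constructor
    · intro h
      have hmaps : ∀ x ∈ t.P, (s : Ω)⁻¹ * x * ((s : Ω)⁻¹)⁻¹ ∈ t.P := fun x hx => by
        rw [inv_inv]; exact (h ⟨x, t.le hx⟩ hx).1
      have hn := mem_normalizer_of_maps_finite hmaps
      rw [inv_mem_iff] at hn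
      have hn' := Subgroup.mem_normalizer_iff.mp hn
      refine ⟨fun x => hn' (x : Ω), fun x hx hxK => ?_⟩
      obtain ⟨-, h2⟩ := h (s * x * s⁻¹) ((hn' (x : Ω)).mp hx)
      rw [← h2 (D.conj_mem s.2 hxK)]
      exact congrArg t.μ (by group)
    · rintro ⟨hu, hu'⟩ x hx
      have e : s * (s⁻¹ * x * s) * s⁻¹ = x := by group
      have h1 : ((s⁻¹ * x * s : S) : Ω) ∈ t.P := by rw [hu, e]; exact hx
      refine ⟨h1, fun hxK => ?_⟩
      rw [← hu' _ h1 (conj_mem_K hxK s), e]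
  have h := Nat.card_congr (QuotientGroup.preimageMkEquivSubgroupProdSet (piece ht).R
    {c | Fix D (piece ht) t c})
  rw [Nat.card_prod, e] at h
  have h' : Nat.card (pairStab D t) = Nat.card t.P * mk' D (piece ht) t := by
    rw [← card_subgroupOf]
    exact h
  rw [card_pairStab ht, mul_comm] at h'
  exact (mul_left_cancel₀ Nat.card_pos.ne' h').symm

theorem mk'_piece [Finite S] {q t : Pair S A} (ht : IsVal D t) (hcard : Nat.card t.P ≤ Nat.card q.P) :
    (SRel D q t → mk' D (piece ht) q = wd D t) ∧ (¬ SRel D q t → mk' D (piece ht) q = 0) := by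
  haveI := finite_of_le t.le
  refine ⟨fun h => ?_, fun h => ?_⟩
  · have := h.mark_eq [piece ht]
    simp only [mark, List.map_cons, List.map_nil, List.sum_cons, List.sum_nil, add_zero] at this
    rw [this, mk'_piece_self]
  · haveI : IsEmpty {c : S ⧸ (piece ht).R // Fix D (piece ht) q c} := by
      refine ⟨fun ⟨c, hc⟩ => ?_⟩
      induction c using QuotientGroup.induction_on with
      | H s =>
        rw [fix_piece ht] at hc
        let j : q.P → t.P := fun x => ⟨_, (hc ⟨x, q.le x.2⟩ x.2).1⟩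
        have hj : Function.Injective j := fun a b hab => Subtype.ext <| by
          simpa [j] using hab
        haveI := finite_of_le q.le
        have hb := hj.bijective_of_nat_card_le hcard
        refine h ⟨s⁻¹, fun x => ⟨fun hx => by simpa using (hc x hx).1, fun hx => ?_⟩,
          fun x hx hxK => by rw [← (hc x hx).2 hxK, inv_inv]⟩
        obtain ⟨y, hy⟩ := hb.2 ⟨_, hx⟩
        have : (y : Ω) = x := by simpa [j] using congrArg Subtype.val hy
        exact this ▸ y.2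
    exact Nat.card_of_isEmpty

/-- The total degree of a list of pieces. -/
noncomputable def degree (L : List (Piece F)) : ℕ := (L.map fun C => C.R.index).sum

theorem base_top [Finite S] [Finite A] [Fact p.Prime] (hS : IsPGroup p S) (hF : F.IsSaturated p)
    (D : Data F A) : ∃ L, ¬ p ∣ degree L ∧ StableFrom D L (Nat.card S) := by
  classical
  have hSn : F.IsFullyNormalized S := ⟨le_rfl, fun Q hQ => by
    rw [show normalizerIn S S = S from le_antisymm inf_le_left (le_normalizerIn le_rfl)]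
    exact Subgroup.card_le_of_le inf_le_left⟩
  have hfa := (isFullyAutomized_iff hS).mp (fullyNormalized_props hS hF hSn).2.1
  haveI : Finite (MulAut S) := inferInstance
  let H : Subgroup (F.autGroup S) := (autInducedBy S S).subgroupOf (F.autGroup S)
  haveI : Fintype (F.autGroup S ⧸ H) := Fintype.ofFinite _
  let pc : (F.autGroup S ⧸ H) → Piece F := fun c =>
    ⟨⊤, autFun ((c.out : MulAut S)⁻¹), ((isMap_autFun le_rfl).mpr (Subgroup.inv_mem _ c.out.2)).mono
      (Subgroup.map_subtype_le _)⟩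
  refine ⟨Finset.univ.toList.map pc, ?_, fun q r hq hr hn hqr => ?_⟩
  · have e1 : degree (Finset.univ.toList.map pc) = H.index := by
      rw [degree, List.map_map, Finset.sum_map_toList]
      simp [pc, Subgroup.index, Nat.card_eq_fintype_card]
    rw [e1]
    exact hfa.2
  haveI := finite_of_le q.le
  have hqS : q.P = S := Subgroup.eq_of_le_of_card_ge q.le hn
  have hrS : r.P = S := Subgroup.eq_of_le_of_card_ge r.le (hn.trans hqr.card_eq.ge)
  obtain ⟨f, hf, hi, hμ⟩ := hqr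
  have hfS : IsMap F S f := hf.mono hqS.ge
  obtain ⟨β, hβ, hβf⟩ := hfS.exists_aut (by rw [← hqS, hi, hqS, hrS])
  have hmark : ∀ t : Pair S A, t.P = S → mark D (Finset.univ.toList.map pc) t =
      Nat.card {c : F.autGroup S ⧸ H // ∀ x : S, (x : Ω) ∈ D.K →
        D.h (((c.out : MulAut S)⁻¹ x : S) : Ω) = t.μ x} := by
    intro t ht
    rw [Nat.card_eq_fintype_card, Fintype.card_subtype, Finset.card_filter, mark, List.map_map,
      Finset.sum_map_toList]
    refine Finset.sum_congr rfl fun c _ => ?_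
    haveI : Subsingleton (S ⧸ (pc c).R) := QuotientGroup.subsingleton_quotient_top
    show mk' D (pc c) t = _
    have hone : ∀ x : S, (1 : S)⁻¹ * x * 1 ∈ (pc c).R := fun _ => Subgroup.mem_top _
    have hcv : ∀ x : S, (x : Ω) ∈ D.K →
        cval D (pc c) x (QuotientGroup.mk 1) = D.h (((c.out : MulAut S)⁻¹ x : S) : Ω) := fun x hx => by
      rw [cval_eq (hone x) hx, show (1 : S)⁻¹ * x * 1 = x by group]
      exact congrArg D.h (autFun_apply _ _)
    split_ifs with h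
    · refine Nat.card_eq_one_iff_unique.mpr ⟨inferInstance, ⟨QuotientGroup.mk 1, fun x _ =>
        ⟨Subsingleton.elim _ _, fun hxK => (hcv x hxK).trans (h x hxK)⟩⟩⟩
    · haveI : IsEmpty {y : S ⧸ (pc c).R // Fix D (pc c) t y} := ⟨fun ⟨y, hy⟩ => h fun x hxK => by
        rw [← (hy x (ht.symm ▸ x.2)).2 hxK, Subsingleton.elim y (QuotientGroup.mk 1), hcv x hxK]⟩
      exact Nat.card_of_isEmpty
  rw [hmark q hqS, hmark r hrS]
  have hKout : ∀ (c : F.autGroup S) (x : S), (x : Ω) ∈ D.K → (((c : MulAut S)⁻¹ x : S) : Ω) ∈ D.K :=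
    fun c x hx => by
      rw [← autFun_apply]
      exact D.closed ((isMap_autFun le_rfl).mpr (Subgroup.inv_mem _ c.2)) _ x.2 hx
  have hwd : ∀ a b : F.autGroup S, a⁻¹ * b ∈ H → ∀ x : S, (x : Ω) ∈ D.K →
      D.h (((b : MulAut S)⁻¹ x : S) : Ω) = D.h (((a : MulAut S)⁻¹ x : S) : Ω) := by
    intro a b hab x hx
    obtain ⟨g, hg, eg⟩ := mem_autInducedBy.mp (Subgroup.mem_subgroupOf.mp (H.inv_mem hab))
    have e : (((b : MulAut S)⁻¹ x : S) : Ω) = g * (((a : MulAut S)⁻¹ x : S) : Ω) * g⁻¹ := by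
      rw [← eg]
      simp [MulAut.mul_apply]
    rw [e, D.hconj g hg _ (hKout a x hx)]
  let b : F.autGroup S := ⟨β, hβ⟩
  refine Nat.card_congr (Equiv.subtypeEquiv (MulAction.toPerm b) fun c => ?_)
  have hout : ∀ x : S, (x : Ω) ∈ D.K → D.h ((((b • c).out : MulAut S)⁻¹ x : S) : Ω) =
      D.h (((c.out : MulAut S)⁻¹ ((β⁻¹ : MulAut S) x) : S) : Ω) := fun x hx => by
    refine (hwd (b * c.out) ((b • c).out) (QuotientGroup.eq.mp ?_) x hx).trans ?_
    · rw [QuotientGroup.out_eq']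
      show b • (QuotientGroup.mk c.out : F.autGroup S ⧸ H) = _
      rw [QuotientGroup.out_eq']
    · show D.h ((((β * (c.out : MulAut S))⁻¹ x : S)) : Ω) = _
      rw [mul_inv_rev]
      rfl
  have hf' : ∀ y : S, ((β y : S) : Ω) = f y := fun y => by rw [← hβf y y.2, autFun_apply]
  constructor
  · intro h x hx
    show D.h ((((b • c).out : MulAut S)⁻¹ x : S) : Ω) = _
    rw [hout x hx, h _ (hKout b x hx)]
    have e2 : f (((β⁻¹ : MulAut S) x : S) : Ω) = x := by rw [← hf', MulAut.apply_inv_self]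
    rw [← hμ _ (hqS.symm ▸ ((β⁻¹ : MulAut S) x).2) (hKout b x hx) (e2.symm ▸ x.2)]
    exact congrArg r.μ (Subtype.ext e2)
  · intro h x hx
    have hbx : ((β x : S) : Ω) ∈ D.K := by
      rw [← autFun_apply]
      exact D.closed ((isMap_autFun le_rfl).mpr hβ) _ x.2 hx
    have h2 := h (β x) hbx
    change D.h ((((b • c).out : MulAut S)⁻¹ (β x) : S) : Ω) = _ at h2
    rw [hout _ hbx, MulAut.inv_apply_self] at h2
    rw [h2, ← hμ x (hqS.symm ▸ x.2) hx (hf' x ▸ (β x).2)]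
    exact congrArg r.μ (Subtype.ext (hf' x))

theorem step [Finite S] [Finite A] [Fact p.Prime] (hS : IsPGroup p S) (hF : F.IsSaturated p)
    {n : ℕ} (hn : n < Nat.card S) {L : List (Piece F)} (hb : ¬ p ∣ degree L)
    (hL : StableFrom D L (n + 1)) : ∃ L', ¬ p ∣ degree L' ∧ StableFrom D L' n := by
  classical
  let T := {q : Pair S A // IsVal D q ∧ Nat.card q.P = n}
  haveI : Fintype T := Fintype.ofFinite _
  let sS : Setoid T := ⟨fun a b => SRel D a.1 b.1, fun a => SRel.refl _, SRel.symm, SRel.trans⟩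
  let sF : Setoid T := ⟨fun a b => PRel D a.1 b.1, fun a => PRel.refl _, PRel.symm, PRel.trans⟩
  haveI : Fintype (Quotient sS) := Fintype.ofFinite _
  have hrep : ∀ c : Quotient sF, ∃ r : Pair S A, IsVal D r ∧ PRel D c.out.1 r ∧ IsRep D p r :=
    fun c => exists_rep hS hF c.out.2.1
  choose rep hrep0 hrep1 hrep2 using hrep
  let bound : ℕ := ∑ t : T, mark D L t.1
  let M : T → ℕ := fun t => mark D L (rep (Quotient.mk sF t)) + Nat.card S * bound
  have hcong : ∀ t : T, mark D L t.1 ≤ M t ∧ wd D t.1 ∣ M t - mark D L t.1 := by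
    intro t
    have hle : mark D L t.1 ≤ M t := by
      have h1 : mark D L t.1 ≤ bound := Finset.single_le_sum (f := fun t : T => mark D L t.1)
        (fun _ _ => Nat.zero_le _) (Finset.mem_univ t)
      have h2 : bound ≤ Nat.card S * bound := Nat.le_mul_of_pos_left _ Nat.card_pos
      exact (h1.trans h2).trans (Nat.le_add_left _ _)
    have hrel : PRel D t.1 (rep (Quotient.mk sF t)) :=
      PRel.trans (PRel.symm (Quotient.mk_out (s := sF) t)) (hrep1 _)
    have h1 := wd_dvd_sub_rep hS hF hL t.2.1 (by rw [t.2.2]) hrel (hrep2 _)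
    have h2 : (wd D t.1 : ℤ) ∣ (Nat.card S : ℤ) := by
      refine Int.natCast_dvd_natCast.mpr (dvd_trans ?_ (Subgroup.card_subgroup_dvd_card (pairStab D t.1)))
      exact card_pairStab t.2.1 ▸ dvd_mul_right _ _
    refine ⟨hle, Int.natCast_dvd_natCast.mp ?_⟩
    rw [Nat.cast_sub hle]
    have e : (M t : ℤ) - mark D L t.1 =
        (Nat.card S : ℤ) * bound - ((mark D L t.1 : ℤ) - mark D L (rep (Quotient.mk sF t))) := by
      show ((mark D L (rep (Quotient.mk sF t)) + Nat.card S * bound : ℕ) : ℤ) - _ = _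
      push_cast
      ring
    rw [e]
    exact Int.dvd_sub (h2.mul_right (bound : ℤ)) h1
  let k : Quotient sS → ℕ := fun c => (M c.out - mark D L c.out.1) / wd D c.out.1
  let L' := L ++ (Finset.univ : Finset (Quotient sS)).toList.flatMap
    fun c => List.replicate (k c) (piece c.out.2.1)
  have hflat : ∀ (l : List (Quotient sS)) (g : Piece F → ℕ),
      ((l.flatMap fun c => List.replicate (k c) (piece c.out.2.1)).map g).sum =
        (l.map fun c => k c * g (piece c.out.2.1)).sum := by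
    intro l g
    induction l with
    | nil => simp
    | cons i l ih => simp [List.flatMap_cons, ih]
  have hmark : ∀ q : Pair S A, mark D L' q =
      mark D L q + ∑ c : Quotient sS, k c * mk' D (piece c.out.2.1) q := fun q => by
    rw [mark, List.map_append, List.sum_append, hflat, Finset.sum_map_toList]
    rfl
  refine ⟨L', ?_, fun q r hq hr hnq hqr => ?_⟩
  · rw [degree, List.map_append, List.sum_append, hflat, Finset.sum_map_toList, Nat.dvd_add_left ?_]
    · exact hb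
    · refine Finset.dvd_sum fun c _ => dvd_mul_of_dvd_right ?_ _
      obtain ⟨j, hj⟩ := hS.index (piece c.out.2.1).R
      rcases Nat.eq_zero_or_pos j with rfl | hj0
      · exfalso
        rw [pow_zero, Subgroup.index_eq_one] at hj
        have := c.out.2.2
        rw [← card_subgroupOf, show c.out.1.P.subgroupOf S = ⊤ from hj,
          Nat.card_congr Subgroup.topEquiv.toEquiv] at this
        omega
      · rw [hj]
        exact dvd_pow_self p hj0.ne'
  · have hc := hqr.card_eq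
    rcases hnq.lt_or_eq with hlt | heq
    · have hz : ∀ t : Pair S A, n < Nat.card t.P → mark D L' t = mark D L t := fun t ht => by
        rw [hmark, Finset.sum_eq_zero fun c _ => ?_, add_zero]
        refine mul_eq_zero_of_right _ ((mk'_piece _ (by rw [c.out.2.2]; exact ht.le)).2 fun hs => ?_)
        have := hs.pRel.card_eq
        rw [c.out.2.2] at this
        omega
      rw [hz q hlt, hz r (hc.symm ▸ hlt)]
      exact hL q r hq hr hlt hqr
    · have hval : ∀ t : T, mark D L' t.1 = M (Quotient.mk sS t).out := by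
        intro t
        have hs : SRel D t.1 (Quotient.mk sS t).out.1 := SRel.symm (Quotient.mk_out (s := sS) t)
        rw [hmark, Finset.sum_eq_single (Quotient.mk sS t) (fun c _ hne => ?_) (by simp),
          (mk'_piece _ (by rw [t.2.2, (Quotient.mk sS t).out.2.2])).1 hs, Nat.div_mul_cancel (hcong _).2,
          hs.mark_eq L, Nat.add_sub_cancel' (hcong _).1]
        refine mul_eq_zero_of_right _ ((mk'_piece _ (by rw [t.2.2, c.out.2.2])).2 fun hs' => hne ?_)
        exact (Quotient.out_eq c).symm.trans (Quotient.sound (SRel.symm hs'))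
      rw [hval ⟨q, hq, heq.symm⟩, hval ⟨r, hr, hc.trans heq.symm⟩]
      have e : Quotient.mk sF (Quotient.mk sS (⟨q, hq, heq.symm⟩ : T)).out =
          Quotient.mk sF (Quotient.mk sS (⟨r, hr, hc.trans heq.symm⟩ : T)).out :=
        Quotient.sound ((SRel.pRel (Quotient.mk_out (s := sS) _)).trans
          (hqr.trans (SRel.pRel (SRel.symm (Quotient.mk_out (s := sS) _)))))
      simp only [M, e]

/-- A list of pieces with stable marks and degree prime to `p`. -/
theorem exists_stable [Finite S] [Finite A] [Fact p.Prime] (hS : IsPGroup p S)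
    (hF : F.IsSaturated p) (D : Data F A) : ∃ L, ¬ p ∣ degree L ∧ StableFrom D L 0 := by
  refine Nat.decreasingInduction' (P := fun n => ∃ L, ¬ p ∣ degree L ∧ StableFrom D L n)
    (fun k hk _ ⟨L, hb, hL⟩ => step hS hF hk hb hL) (Nat.zero_le (Nat.card S))
    (base_top hS hF D)

end Cfsg.Lib.Fusion.RelTransfer
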